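import Cfsg.Agent.H48.Ree.Global

/-!
The order of the small Ree group up to the diagonal part, and its Sylow three-subgroups.
-/

set_option autoImplicit false

open Cfsg.Lie Cfsg.Agent.H46

namespace Cfsg.Agent.H48.Ree

variable {K : Type*} [Field K] [Fintype K] {m : ℕ}

theorem Ur_ne_bot (hK : Fintype.card K = 3 ^ (2 * m + 1)) : ∃ u ∈ Ur K m, u ≠ 1 := by
  haveI := (field_data hK).1
  exact ⟨W (3 ^ m) 0 1 0, W_mem_U _ _ _ _, fun e => one_ne_zero (W_eq_one_iff.1 e).2.1⟩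

theorem nW_not_borel (hK : Fintype.card K = 3 ^ (2 * m + 1)) : (nW : GL chevG2.Idx K) ∉ Br K m := by
  intro hn
  obtain ⟨u, hu, hne⟩ := Ur_ne_bot hK
  exact hne (conj_nW_borel hK hu (Subgroup.mem_inf.1 (Ur_le_Br (conj_U hn hu))).1)

/-- An element outside the Borel subgroup conjugates `U` away from the Borel subgroup. -/
theorem conj_inter (hK : Fintype.card K = 3 ^ (2 * m + 1)) {g w : GL chevG2.Idx K} (hg : g ∈ Gr K m)
    (hgB : g ∉ Br K m) (hw : w ∈ Ur K m) (h : g * w * g⁻¹ ∈ Br K m) : w = 1 := by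
  rcases decomp hK hg with h1 | ⟨b, hb, u, hu, rfl⟩
  · exact absurd h1 hgB
  · have hw' : u * w * u⁻¹ ∈ Ur K m := mul_mem (mul_mem hu hw) (inv_mem hu)
    have h2 : nW * (u * w * u⁻¹) * nW⁻¹ ∈ Br K m := by
      have := mul_mem (mul_mem (inv_mem hb) h) hb
      convert this using 1
      group
    exact conj_eq_one_iff.1 (conj_nW_borel hK hw' (Subgroup.mem_inf.1 h2).1)

/-- The diagonal subgroup embeds into the multiplicative group. -/
theorem card_Hr_dvd (hK : Fintype.card K = 3 ^ (2 * m + 1)) :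
    Nat.card ↥(Hr K m) ∣ 3 ^ (2 * m + 1) - 1 := by
  haveI := (field_data hK).1
  obtain ⟨ψ, hψ, -⟩ := exists_param (uShape hK)
  rw [← hK, ← Nat.card_eq_fintype_card, ← Nat.card_units]
  exact Subgroup.card_dvd_of_injective ψ hψ

theorem card_Br (hK : Fintype.card K = 3 ^ (2 * m + 1)) :
    Nat.card ↥(Br K m) = Nat.card ↥(Ur K m) * Nat.card ↥(Hr K m) := by
  rw [← Nat.card_prod]
  refine (Nat.card_eq_of_bijective
    (fun p => ⟨(p.1 : GL chevG2.Idx K) * p.2, mul_mem (Ur_le_Br p.1.2) (Hr_le_Br p.2.2)⟩) ⟨?_, ?_⟩).symm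
  · rintro ⟨⟨u, hu⟩, ⟨h, hh⟩⟩ ⟨⟨u', hu'⟩, ⟨h', hh'⟩⟩ e
    have e1 : u * h = u' * h' := congrArg Subtype.val e
    have e2 : u'⁻¹ * u = h' * h⁻¹ := by rw [eq_mul_inv_iff_mul_eq, mul_assoc, e1, inv_mul_cancel_left]
    have h1 := Ur_inf_Hr (mul_mem (inv_mem hu') hu) (e2 ▸ mul_mem hh' (inv_mem hh))
    rw [inv_mul_eq_one] at h1
    subst h1
    obtain rfl := mul_left_cancel e1
    rfl
  · rintro ⟨b, hb⟩
    obtain ⟨u, hu, h, hh, rfl⟩ := mem_Br hK hb
    exact ⟨(⟨u, hu⟩, ⟨h, hh⟩), rfl⟩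

/-- The order of the small Ree group in terms of its diagonal subgroup. -/
theorem card_Gr (hK : Fintype.card K = 3 ^ (2 * m + 1)) :
    Nat.card ↥(Gr K m) =
      (3 ^ (2 * m + 1)) ^ 3 * Nat.card ↥(Hr K m) * (1 + (3 ^ (2 * m + 1)) ^ 3) := by
  classical
  let f : ↥(Br K m) ⊕ ↥(Br K m) × ↥(Ur K m) → ↥(Gr K m) :=
    Sum.elim (fun b : ↥(Br K m) => ⟨(b : GL chevG2.Idx K), (Subgroup.mem_inf.1 b.2).2⟩)
      (fun p : ↥(Br K m) × ↥(Ur K m) => ⟨(p.1 : GL chevG2.Idx K) * nW * (p.2 : GL chevG2.Idx K),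
        mul_mem (mul_mem (Subgroup.mem_inf.1 p.1.2).2 (nW_mem hK)) (Subgroup.mem_inf.1 p.2.2).2⟩)
  have hf : Function.Bijective f := by
    have key : ∀ b ∈ Br K m, ∀ u ∈ Ur K m, b * nW * u ∉ Br K m := by
      intro b hb u hu h
      refine nW_not_borel hK ?_
      have := mul_mem (mul_mem (inv_mem hb) h) (inv_mem (Ur_le_Br hu))
      convert this using 1
      group
    refine ⟨?_, fun g => ?_⟩
    · rintro (⟨b, hb⟩ | ⟨⟨b, hb⟩, ⟨u, hu⟩⟩) (⟨b', hb'⟩ | ⟨⟨b', hb'⟩, ⟨u', hu'⟩⟩) e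
      · simp only [f, Sum.elim_inl, Subtype.mk.injEq] at e
        simp [e]
      · simp only [f, Sum.elim_inl, Sum.elim_inr, Subtype.mk.injEq] at e
        exact absurd (e ▸ hb) (key b' hb' u' hu')
      · simp only [f, Sum.elim_inl, Sum.elim_inr, Subtype.mk.injEq] at e
        exact absurd (e ▸ hb') (key b hb u hu)
      · simp only [f, Sum.elim_inr, Subtype.mk.injEq] at e
        have h2 : nW * (u * u'⁻¹) * nW⁻¹ = b⁻¹ * b' := by
          rw [eq_inv_mul_iff_mul_eq, ← mul_assoc, ← mul_assoc, ← mul_assoc, e]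
          group
        have h1 : nW * (u * u'⁻¹) * nW⁻¹ ∈ Br K m := h2 ▸ mul_mem (inv_mem hb) hb'
        have h3 := conj_nW_borel hK (mul_mem hu (inv_mem hu')) (Subgroup.mem_inf.1 h1).1
        rw [mul_inv_eq_one] at h3
        subst h3
        obtain rfl := mul_right_cancel (mul_right_cancel e)
        rfl
    · rcases decomp hK g.2 with h | ⟨b, hb, u, hu, e⟩
      · exact ⟨Sum.inl ⟨g, h⟩, Subtype.ext rfl⟩
      · exact ⟨Sum.inr (⟨b, hb⟩, ⟨u, hu⟩), Subtype.ext e.symm⟩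
  rw [← Nat.card_eq_of_bijective f hf, Nat.card_sum, Nat.card_prod, card_Br hK, card_Ur hK]
  ring

/-- Distinct Sylow three-subgroups meet trivially. -/
theorem sylow_three_trivial_inter (hK : Fintype.card K = 3 ^ (2 * m + 1))
    (P Q : Sylow 3 ↥(Gr K m)) (hPQ : P ≠ Q) : (P : Subgroup ↥(Gr K m)) ⊓ (Q : Subgroup ↥(Gr K m)) = ⊥ := by
  classical
  haveI : Fact (Nat.Prime 3) := ⟨Nat.prime_three⟩
  let U' : Subgroup ↥(Gr K m) := (Ur K m).subgroupOf (Gr K m)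
  have hcU : Nat.card ↥U' = 3 ^ ((2 * m + 1) * 3) := by
    rw [Nat.card_congr (Subgroup.subgroupOfEquivOfLe (inf_le_right : Ur K m ≤ Gr K m)).toEquiv, card_Ur hK, pow_mul]
  have hidx : ¬ 3 ∣ U'.index := by
    have hmul := U'.card_mul_index
    rw [card_Gr hK, hcU, pow_mul, mul_assoc] at hmul
    rw [Nat.eq_of_mul_eq_mul_left (by positivity) hmul]
    intro h
    have h3 : 3 ∣ 3 ^ (2 * m + 1) := dvd_pow_self 3 (by omega)
    rcases (Nat.Prime.dvd_mul Nat.prime_three).1 h with h | h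
    · have := dvd_trans h (card_Hr_dvd hK)
      have := Nat.one_le_pow (2 * m + 1) 3 (by omega)
      omega
    · have := dvd_pow h3 (show 3 ≠ 0 by omega)
      omega
  let S : Sylow 3 ↥(Gr K m) := (IsPGroup.of_card hcU).toSylow hidx
  have hS : (S : Subgroup ↥(Gr K m)) = U' := IsPGroup.toSylow_coe _ _
  obtain ⟨a, rfl⟩ := MulAction.exists_smul_eq ↥(Gr K m) S P
  obtain ⟨c, rfl⟩ := MulAction.exists_smul_eq ↥(Gr K m) S Q
  rw [Subgroup.eq_bot_iff_forall]
  intro x hx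
  obtain ⟨hxP, hxQ⟩ := Subgroup.mem_inf.1 hx
  rw [Sylow.coe_subgroup_smul, Subgroup.mem_pointwise_smul_iff_inv_smul_mem, hS] at hxP hxQ
  have hP : (a : GL chevG2.Idx K)⁻¹ * x * a ∈ Ur K m := by
    refine Subgroup.mem_inf.2 ⟨?_, mul_mem (mul_mem (inv_mem a.2) x.2) a.2⟩
    simpa [U', Subgroup.mem_subgroupOf, MulAut.conj_apply] using hxP
  have hQ : (c : GL chevG2.Idx K)⁻¹ * x * c ∈ Ur K m := by
    refine Subgroup.mem_inf.2 ⟨?_, mul_mem (mul_mem (inv_mem c.2) x.2) c.2⟩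
    simpa [U', Subgroup.mem_subgroupOf, MulAut.conj_apply] using hxQ
  have hg : ((a : GL chevG2.Idx K)⁻¹ * c) ∉ Br K m := by
    intro hg
    apply hPQ
    have : (a⁻¹ * c) • S = S := by
      rw [Sylow.smul_eq_iff_mem_normalizer, Subgroup.mem_set_normalizer_iff]
      intro w
      change w ∈ (S : Subgroup ↥(Gr K m)) ↔ _ ∈ (S : Subgroup ↥(Gr K m))
      simp only [hS, U', Subgroup.mem_subgroupOf, Subgroup.coe_mul, Subgroup.coe_inv]
      refine ⟨fun hw => conj_U hg hw, fun hw => ?_⟩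
      have := conj_U (inv_mem hg) hw
      convert this using 1
      group
    rw [mul_smul, inv_smul_eq_iff] at this
    exact this.symm
  have h1 := conj_inter hK (mul_mem (inv_mem a.2) c.2) hg hQ (Ur_le_Br (by
    convert hP using 1
    group))
  apply Subtype.ext
  have h2 := congrArg (fun y => (c : GL chevG2.Idx K) * y * (c : GL chevG2.Idx K)⁻¹) h1
  simpa [mul_assoc] using h2

end Cfsg.Agent.H48.Ree
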