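import Cfsg.Agent.H65.Chev.G2
import Cfsg.Prelude.Def_LieTwisted

/-!
Coordinates on the unipotent group of the small Ree group: the elements
`x₇(t^e) x₆(t) x₈(t^(e+1)+u^e) x₉(t^(2e+1)+v^e) x₁₀(u) x₁₁(v)` of G₂ in characteristic three,
their product law and their conjugation by torus elements.
-/

set_option autoImplicit false

open Cfsg.Lie Cfsg.Agent.H46 Cfsg.Agent.H65

namespace Cfsg.Agent.H48.Ree

variable {F : Type*} [Field F]

local notation "X" => Good.xg goodG2

/-- A product of root elements in the order a, b, a+b, 2a+b, 3a+b, 3a+2b. -/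
noncomputable def P (a b c d g h : F) : GL chevG2.Idx F :=
  X 7 a * X 6 b * X 8 c * X 9 d * X 10 g * X 11 h

section Char3

variable [CharP F 3]

theorem three0 : (3 : F) = 0 := by simpa using CharP.cast_eq_zero F 3

theorem comm67 (t u : F) :
    X 7 u * X 6 t = X 6 t * X 7 u *
      (X 8 (-(t * u)) * X 9 (-(t * u ^ 2)) * X 10 (t * u ^ 3) * X 11 (t ^ 2 * u ^ 3)) := by
  rw [xg_mul_xg goodG2 (by decide +kernel) (by decide +kernel) (by decide) (by decide +kernel)
    (L := [(8, 1, 1, 1), (9, 1, 1, 2), (10, -1, 1, 3), (11, -2, 2, 3)]) (by decide +kernel)]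
  simp only [List.map_cons, List.map_nil, List.prod_cons, List.prod_nil, mul_one, mul_assoc]
  have h3 := three0 (F := F)
  congr 1
  congr 1
  push_cast
  congr 1 <;> [skip; congr 1 <;> [skip; congr 1]] <;> congr 1 <;> first | ring1 | linear_combination (-(t ^ 2 * u ^ 3)) * h3

omit [CharP F 3] in
theorem comm610 (t u : F) : X 10 u * X 6 t = X 6 t * X 10 u * X 11 (-(t * u)) := by
  rw [xg_mul_xg goodG2 (by decide +kernel) (by decide +kernel) (by decide) (by decide +kernel)
    (L := [(11, 1, 1, 1)]) (by decide +kernel)]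
  simp [mul_assoc]

theorem comm78 (t u : F) : X 8 u * X 7 t = X 7 t * X 8 u * X 9 (-(t * u)) := by
  rw [xg_mul_xg goodG2 (by decide +kernel) (by decide +kernel) (by decide) (by decide +kernel)
    (L := [(9, -2, 1, 1), (10, -3, 2, 1), (11, 3, 1, 2)]) (by decide +kernel)]
  simp only [List.map_cons, List.map_nil, List.prod_cons, List.prod_nil, mul_one]
  have h3 := three0 (F := F)
  push_cast
  simp only [h3, neg_zero, zero_mul, goodG2.xg_zero, mul_one]
  congr 2
  linear_combination (t * u) * h3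

theorem commute79 (t u : F) : Commute (X 7 t) (X 9 u) := by
  refine (?_ : X 7 t * X 9 u = X 9 u * X 7 t)
  rw [xg_mul_xg goodG2 (r := 7) (s := 9) (by decide +kernel) (by decide +kernel) (by decide) (by decide +kernel)
    (L := [(10, 3, 1, 1)]) (by decide +kernel) t u]
  simp [three0, goodG2.xg_zero]

theorem commute89 (t u : F) : Commute (X 8 t) (X 9 u) := by
  refine (?_ : X 8 t * X 9 u = X 9 u * X 8 t)
  rw [xg_mul_xg goodG2 (r := 8) (s := 9) (by decide +kernel) (by decide +kernel) (by decide) (by decide +kernel)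
    (L := [(11, 3, 1, 1)]) (by decide +kernel) t u]
  simp [three0, goodG2.xg_zero]

/-- The abelian normal part spanned by the roots a+b, 2a+b, 3a+b, 3a+2b. -/
noncomputable def R (c d g h : F) : GL chevG2.Idx F := X 8 c * X 9 d * X 10 g * X 11 h

omit [CharP F 3] in
theorem R_zero : R (0 : F) 0 0 0 = 1 := by simp [R, goodG2.xg_zero]

theorem R_mul (c d g h c' d' g' h' : F) :
    R c d g h * R c' d' g' h' = R (c + c') (d + d') (g + g') (h + h') := by
  have k89 : ∀ t u : F, X 9 u * X 8 t = X 8 t * X 9 u := fun t u => (commute89 t u).eq.symm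
  have k810 : ∀ t u : F, X 10 u * X 8 t = X 8 t * X 10 u := fun t u => (g2_commute (by simp) t u).eq.symm
  have k811 : ∀ t u : F, X 11 u * X 8 t = X 8 t * X 11 u := fun t u => (g2_commute (by simp) t u).eq.symm
  have k910 : ∀ t u : F, X 10 u * X 9 t = X 9 t * X 10 u := fun t u => (g2_commute (by simp) t u).eq.symm
  have k911 : ∀ t u : F, X 11 u * X 9 t = X 9 t * X 11 u := fun t u => (g2_commute (by simp) t u).eq.symm
  have k1011 : ∀ t u : F, X 11 u * X 10 t = X 10 t * X 11 u := fun t u => (g2_commute (by simp) t u).eq.symm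
  calc R c d g h * R c' d' g' h'
      = X 8 c * (X 9 d * (X 10 g * (X 11 h * X 8 c' * X 9 d' * X 10 g' * X 11 h'))) := by simp only [R, mul_assoc]
    _ = X 8 c * (X 9 d * (X 10 g * X 8 c' * X 11 h * X 9 d' * X 10 g' * X 11 h')) := by
        rw [k811]; simp only [mul_assoc]
    _ = X 8 c * (X 9 d * X 8 c' * (X 10 g * (X 11 h * X 9 d' * X 10 g' * X 11 h'))) := by
        rw [k810]; simp only [mul_assoc]
    _ = X 8 c * X 8 c' * (X 9 d * (X 10 g * X 9 d' * (X 11 h * X 10 g' * X 11 h'))) := by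
        rw [k89, k911]; simp only [mul_assoc]
    _ = X 8 c * X 8 c' * (X 9 d * X 9 d' * (X 10 g * X 10 g' * (X 11 h * X 11 h'))) := by
        rw [k910, k1011]; simp only [mul_assoc]
    _ = R (c + c') (d + d') (g + g') (h + h') := by simp only [R, goodG2.xg_add, mul_assoc]

theorem R_inv (c d g h : F) : (R c d g h)⁻¹ = R (-c) (-d) (-g) (-h) := by
  refine inv_eq_of_mul_eq_one_right ?_
  rw [R_mul, add_neg_cancel, add_neg_cancel, add_neg_cancel, add_neg_cancel, R_zero]

theorem R_mul_seven (c d g h a : F) : R c d g h * X 7 a = X 7 a * R c (d - a * c) g h := by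
  have k711 : X 11 h * X 7 a = X 7 a * X 11 h := (g2_commute (by simp) a h).eq.symm
  have k710 : X 10 g * X 7 a = X 7 a * X 10 g := (g2_commute (by simp) a g).eq.symm
  have k79 : X 9 d * X 7 a = X 7 a * X 9 d := (commute79 a d).eq.symm
  calc R c d g h * X 7 a = X 8 c * X 7 a * (X 9 d * X 10 g * X 11 h) := by
        simp only [R, mul_assoc]
        rw [k711, ← mul_assoc (X 10 g), k710, mul_assoc, ← mul_assoc (X 9 d), k79]
        simp only [mul_assoc]
    _ = X 7 a * (X 8 c * (X 9 (-(a * c)) * X 9 d) * X 10 g * X 11 h) := by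
        rw [comm78]; simp only [mul_assoc]
    _ = X 7 a * R c (d - a * c) g h := by
        rw [goodG2.xg_add, R, sub_eq_neg_add]

omit [CharP F 3] in
theorem R_mul_six (c d g h b : F) : R c d g h * X 6 b = X 6 b * R c d g (h - b * g) := by
  have k611 : X 11 h * X 6 b = X 6 b * X 11 h := (g2_commute (by simp) b h).eq.symm
  have k69 : X 9 d * X 6 b = X 6 b * X 9 d := (g2_commute (by simp) b d).eq.symm
  have k68 : X 8 c * X 6 b = X 6 b * X 8 c := (g2_commute (by simp) b c).eq.symm
  calc R c d g h * X 6 b = X 8 c * (X 9 d * (X 10 g * X 6 b * X 11 h)) := by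
        simp only [R, mul_assoc]; rw [k611]
    _ = X 8 c * (X 9 d * X 6 b * (X 10 g * (X 11 (-(b * g)) * X 11 h))) := by
        rw [comm610]; simp only [mul_assoc]
    _ = X 8 c * X 6 b * (X 9 d * (X 10 g * (X 11 (-(b * g)) * X 11 h))) := by
        rw [k69]; simp only [mul_assoc]
    _ = X 6 b * R c d g (h - b * g) := by
        rw [k68, goodG2.xg_add, ← sub_eq_neg_add]; simp only [R, mul_assoc]

theorem six_mul_seven (b a : F) : X 6 b * X 7 a =
    X 7 a * X 6 b * R (b * a) (b * a ^ 2) (-(b * a ^ 3)) (-(b ^ 2 * a ^ 3)) := by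
  rw [comm67 b a, ← R, mul_assoc, R_mul, neg_add_cancel, neg_add_cancel, add_neg_cancel, add_neg_cancel,
    R_zero, mul_one]

omit [CharP F 3] in
theorem P_eq (a b c d g h : F) : P a b c d g h = X 7 a * X 6 b * R c d g h := by
  simp only [P, R, mul_assoc]

theorem P_mul (a b c d g h a' b' c' d' g' h' : F) :
    P a b c d g h * P a' b' c' d' g' h' =
      P (a + a') (b + b') (c + c' + b * a') (d + d' - a' * c + b * a' ^ 2) (g + g' - b * a' ^ 3)
        (h + h' - b ^ 2 * a' ^ 3 - b' * (g - b * a' ^ 3)) := by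
  calc P a b c d g h * P a' b' c' d' g' h'
      = X 7 a * X 6 b * (R c d g h * X 7 a') * X 6 b' * R c' d' g' h' := by simp only [P_eq, mul_assoc]
    _ = X 7 a * (X 6 b * X 7 a') * R c (d - a' * c) g h * X 6 b' * R c' d' g' h' := by
        rw [R_mul_seven]; simp only [mul_assoc]
    _ = X 7 (a + a') * X 6 b *
          (R (b * a') (b * a' ^ 2) (-(b * a' ^ 3)) (-(b ^ 2 * a' ^ 3)) * R c (d - a' * c) g h * X 6 b') *
          R c' d' g' h' := by
        rw [six_mul_seven]; simp only [← goodG2.xg_add (r := 7), mul_assoc]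
    _ = X 7 (a + a') * (X 6 b * X 6 b') *
          (R (b * a' + c) (b * a' ^ 2 + (d - a' * c)) (-(b * a' ^ 3) + g)
            (-(b ^ 2 * a' ^ 3) + h - b' * (-(b * a' ^ 3) + g)) * R c' d' g' h') := by
        rw [R_mul, R_mul_six]; simp only [mul_assoc]
    _ = _ := by
        rw [R_mul, goodG2.xg_add, ← P_eq]
        congr 1 <;> ring

omit [CharP F 3] in
/-- The coordinates of `R` and `P` in the order 6,…,11. -/
theorem ordProd_six (f : ℕ → F) :
    goodG2.ordProd 6 f = X 6 (f 6) * X 7 (f 7) * R (f 8) (f 9) (f 10) (f 11) := by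
  simp only [Good.ordProd, show chevG2.nroots - 6 = 6 from rfl, List.range', List.map_cons, List.map_nil,
    List.prod_cons, List.prod_nil, mul_one, R, mul_assoc]

theorem P_injective {a b c d g h a' b' c' d' g' h' : F} (e : P a b c d g h = P a' b' c' d' g' h') :
    a = a' ∧ b = b' ∧ c = c' ∧ d = d' ∧ g = g' ∧ h = h' := by
  have key : ∀ a b c d g h : F, P a b c d g h = goodG2.ordProd 6 (fun r =>
      if r = 6 then b else if r = 7 then a else if r = 8 then c - b * a else if r = 9 then d - b * a ^ 2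
      else if r = 10 then g + b * a ^ 3 else h + b ^ 2 * a ^ 3) := by
    intro a b c d g h
    rw [ordProd_six]
    norm_num
    rw [six_mul_seven, mul_assoc, R_mul, P_eq]
    congr 2 <;> ring
  rw [key, key] at e
  have hu := fun r hr hr' => goodG2.ordProd_injective 6 (show chevG2.nroots / 2 ≤ 6 from le_rfl) _ _ e r hr hr'
  have h6 := hu 6 le_rfl (by decide)
  have h7 := hu 7 (by omega) (by decide)
  have h8 := hu 8 (by omega) (by decide)
  have h9 := hu 9 (by omega) (by decide)
  have h10 := hu 10 (by omega) (by decide)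
  have h11 := hu 11 (by omega) (by decide)
  norm_num at h6 h7 h8 h9 h10 h11
  subst h6 h7
  exact ⟨rfl, rfl, by linear_combination h8, by linear_combination h9, by linear_combination h10,
    by linear_combination h11⟩

omit [CharP F 3] in
theorem torus_conj_P (z : Fin chevG2.rank → Fˣ) (a b c d g h : F) :
    goodG2.torus z * P a b c d g h * (goodG2.torus z)⁻¹ =
      P ((goodG2.torusVal z 7 : F) * a) ((goodG2.torusVal z 6 : F) * b) ((goodG2.torusVal z 8 : F) * c)
        ((goodG2.torusVal z 9 : F) * d) ((goodG2.torusVal z 10 : F) * g) ((goodG2.torusVal z 11 : F) * h) := by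
  simp only [P, ← goodG2.torus_conj_xg z (r := 7) (by decide), ← goodG2.torus_conj_xg z (r := 6) (by decide),
    ← goodG2.torus_conj_xg z (r := 8) (by decide), ← goodG2.torus_conj_xg z (r := 9) (by decide),
    ← goodG2.torus_conj_xg z (r := 10) (by decide), ← goodG2.torus_conj_xg z (r := 11) (by decide)]
  group

end Char3

/-- The element `x₇(t^e) x₆(t) x₈(t^(e+1)+u^e) x₉(t^(2e+1)+v^e) x₁₀(u) x₁₁(v)`. -/
noncomputable def W (e : ℕ) (t u v : F) : GL chevG2.Idx F :=
  P (t ^ e) t (t ^ (e + 1) + u ^ e) (t ^ (2 * e + 1) + v ^ e) u v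

theorem coe_W (e : ℕ) (t u v : F) :
    (W e t u v : Matrix chevG2.Idx chevG2.Idx F) = chevG2.wordMat F (reeWordU e t u v) := by
  simp only [W, P, reeWordU, g2a, g2b, g2ab, g2aab, g2aaab, g2aaabb, ChevalleyDatum.wordMat, List.map_cons,
    List.map_nil, List.prod_cons, List.prod_nil, mul_one, Units.val_mul, goodG2.coe_xg, mul_assoc]

theorem eq_W {e : ℕ} {t u v : F} {g : GL chevG2.Idx F}
    (h : (g : Matrix chevG2.Idx chevG2.Idx F) = chevG2.wordMat F (reeWordU e t u v)) : g = W e t u v :=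
  Units.ext (h.trans (coe_W e t u v).symm)

theorem W_mem_twisted (e : ℕ) (t u v : F) : W e t u v ∈ twistedG2 F e :=
  Subgroup.subset_closure ⟨_, ⟨t, u, v, Or.inl rfl⟩, coe_W e t u v⟩

theorem W_mem_pos (e : ℕ) (t u v : F) : W e t u v ∈ chevG2.posUnipotent F := by
  unfold W P
  exact mul_mem (mul_mem (mul_mem (mul_mem (mul_mem (goodG2.xg_mem_pos (g2_pos (by omega) (by omega)) _)
    (goodG2.xg_mem_pos (g2_pos (by omega) (by omega)) _)) (goodG2.xg_mem_pos (g2_pos (by omega) (by omega)) _))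
    (goodG2.xg_mem_pos (g2_pos (by omega) (by omega)) _)) (goodG2.xg_mem_pos (g2_pos (by omega) (by omega)) _))
    (goodG2.xg_mem_pos (g2_pos (by omega) (by omega)) _)

theorem W_zero (m : ℕ) : W (3 ^ m) (0 : F) 0 0 = 1 := by
  simp [W, P, goodG2.xg_zero]

theorem W_injective [CharP F 3] {e : ℕ} {t u v t' u' v' : F} (h : W e t u v = W e t' u' v') :
    t = t' ∧ u = u' ∧ v = v' := by
  obtain ⟨-, h1, -, -, h2, h3⟩ := P_injective h
  exact ⟨h1, h2, h3⟩

theorem W_eq_one_iff [CharP F 3] {m : ℕ} {t u v : F} : W (3 ^ m) t u v = 1 ↔ t = 0 ∧ u = 0 ∧ v = 0 := by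
  refine ⟨fun h => W_injective (h.trans (W_zero m).symm), fun h => ?_⟩
  obtain ⟨rfl, rfl, rfl⟩ := h
  exact W_zero m

theorem frob_iterate {m : ℕ} (hq : ∀ x : F, x ^ 3 ^ (2 * m + 1) = x) (x : F) :
    (x ^ (3 * 3 ^ m)) ^ 3 ^ m = x := by
  rw [← pow_mul]
  convert hq x using 2
  ring

theorem W_mul [CharP F 3] {m : ℕ} (hq : ∀ x : F, x ^ 3 ^ (2 * m + 1) = x) (t u v s u' v' : F) :
    W (3 ^ m) t u v * W (3 ^ m) s u' v' =
      W (3 ^ m) (t + s) (u + u' - t * s ^ (3 * 3 ^ m))
        (v + v' - t ^ 2 * s ^ (3 * 3 ^ m) - s * u + t * s ^ (3 * 3 ^ m + 1)) := by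
  set e := 3 ^ m with he
  have hA : ∀ x y : F, (x + y) ^ e = x ^ e + y ^ e := fun x y => by
    haveI : Fact (Nat.Prime 3) := ⟨Nat.prime_three⟩
    exact add_pow_char_pow x y 3 m
  have hS : ∀ x y : F, (x - y) ^ e = x ^ e - y ^ e := fun x y => by
    haveI : Fact (Nat.Prime 3) := ⟨Nat.prime_three⟩
    exact sub_pow_char_pow x y (p := 3) m
  have hi := frob_iterate hq
  rw [← he] at hi
  have h3 := three0 (F := F)
  unfold W
  rw [P_mul]
  congr 1
  · rw [hA]
  · simp only [hS, hA, mul_pow, hi, pow_add, pow_one]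
    ring
  · simp only [hS, hA, mul_pow, hi, pow_add, pow_one, two_mul]
    have e1 : ∀ x : F, x ^ (3 * e) = (x ^ e) ^ 3 := fun x => by rw [← pow_mul, mul_comm]
    have hi' : ∀ x : F, ((x ^ e) ^ 3) ^ e = x := fun x => by rw [← e1]; exact hi x
    have e2 : ∀ x : F, (x ^ 2) ^ e = x ^ e * x ^ e := fun x => by rw [← pow_mul, two_mul, pow_add]
    simp only [e1, hi', e2]
    linear_combination (-(t ^ e * t * s ^ e) - t ^ e * s ^ e * s) * h3
  · rw [← pow_mul, mul_comm e 3]
  · rw [← pow_mul, mul_comm e 3, pow_add, pow_one]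
    ring

theorem W_cube [CharP F 3] {m : ℕ} (hq : ∀ x : F, x ^ 3 ^ (2 * m + 1) = x) (t u v : F) :
    W (3 ^ m) t u v ^ 3 = W (3 ^ m) 0 0 (-(t ^ (3 * 3 ^ m + 2))) := by
  rw [pow_succ, pow_two, W_mul hq, W_mul hq]
  have h3 := three0 (F := F)
  congr 1
  · linear_combination t * h3
  · linear_combination (u - t * t ^ (3 * 3 ^ m)) * h3
  · rw [pow_add, pow_add, pow_one]
    linear_combination (v - t * u) * h3

theorem torus_conj_W (z : Fin chevG2.rank → Fˣ) (e : ℕ) (t u v : F) :
    goodG2.torus z * W e t u v * (goodG2.torus z)⁻¹ =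
      P ((goodG2.torusVal z 7 : F) * t ^ e) ((goodG2.torusVal z 6 : F) * t)
        ((goodG2.torusVal z 8 : F) * (t ^ (e + 1) + u ^ e))
        ((goodG2.torusVal z 9 : F) * (t ^ (2 * e + 1) + v ^ e)) ((goodG2.torusVal z 10 : F) * u)
        ((goodG2.torusVal z 11 : F) * v) :=
  torus_conj_P z _ _ _ _ _ _

end Cfsg.Agent.H48.Ree
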