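import Cfsg.Agent.H48.Ree.Shape
import Cfsg.Agent.H47.FixedBN

/-!
The Bruhat decomposition of the small Ree group with one non-trivial cell, inside the general linear group.
-/

set_option autoImplicit false

open Cfsg.Lie Cfsg.Agent.H46 Cfsg.Agent.H65.Twist

namespace Cfsg.Agent.H48.Ree

variable (K : Type*) [Field K] (m : ℕ)

/-- The small Ree group. -/
abbrev Gr : Subgroup (GL chevG2.Idx K) := twistedG2 K (3 ^ m)

/-- Its unipotent subgroup. -/
abbrev Ur : Subgroup (GL chevG2.Idx K) := chevG2.posUnipotent K ⊓ Gr K m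

/-- Its diagonal subgroup. -/
abbrev Hr : Subgroup (GL chevG2.Idx K) := chevG2.diagonalSubgroup K ⊓ Gr K m

/-- Its Borel subgroup. -/
abbrev Br : Subgroup (GL chevG2.Idx K) := chevG2.borelSubgroup K ⊓ Gr K m

variable {K m}

/-- The representative of the reflection. -/
noncomputable abbrev nW : GL chevG2.Idx K := (reeN K : GL chevG2.Idx K)

theorem nW_mon : (nW : GL chevG2.Idx K) ∈ chevG2.monomialSubgroup K := goodG2.nProd_mem _

theorem Ur_le_Br : Ur K m ≤ Br K m := inf_le_inf_right _ le_sup_left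

theorem Hr_le_Br : Hr K m ≤ Br K m := inf_le_inf_right _ le_sup_right

theorem conj_U {b u : GL chevG2.Idx K} (hb : b ∈ Br K m) (hu : u ∈ Ur K m) : b * u * b⁻¹ ∈ Ur K m := by
  obtain ⟨hb1, hb2⟩ := Subgroup.mem_inf.1 hb
  obtain ⟨hu1, hu2⟩ := Subgroup.mem_inf.1 hu
  exact Subgroup.mem_inf.2 ⟨goodG2.conj_posUnipotent hb1 hu1, mul_mem (mul_mem hb2 hu2) (inv_mem hb2)⟩

theorem Ur_inf_Hr {g : GL chevG2.Idx K} (hu : g ∈ Ur K m) (hh : g ∈ Hr K m) : g = 1 :=
  (Subgroup.eq_bot_iff_forall _).1 (goodG2.posUnipotent_inf_diagonal (F := K)) g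
    (Subgroup.mem_inf.2 ⟨(Subgroup.mem_inf.1 hu).1, (Subgroup.mem_inf.1 hh).1⟩)

variable [Fintype K]

theorem nW_mem (hK : Fintype.card K = 3 ^ (2 * m + 1)) : (nW : GL chevG2.Idx K) ∈ Gr K m := by
  haveI := (field_data hK).1
  exact reeN_mem (K := K) (m := m)

/-- `n` conjugates no non-trivial element of `U` into the Borel subgroup. -/
theorem conj_nW_borel (hK : Fintype.card K = 3 ^ (2 * m + 1)) {u : GL chevG2.Idx K} (hu : u ∈ Ur K m)
    (hb : nW * u * nW⁻¹ ∈ chevG2.borelSubgroup K) : u = 1 := by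
  haveI := (field_data hK).1
  have hV : nW * u * nW⁻¹ ∈ chevG2.negUnipotent K := by
    refine goodG2.conj_posSub_invSet nW_mon ?_
    have h := (reeSetup K hK).invSet_nS ()
    change goodG2.invSet (nW : GL chevG2.Idx K) = _ at h
    rw [h]
    have h2 := (Subgroup.mem_inf.1 hu).1
    rw [goodG2.posUnipotent_eq] at h2
    exact goodG2.posSub_mono (S := Set.univ) (fun r hr _ => (⟨hr, hr.1, fun i _ hi => absurd trivial hi⟩ : chevG2.IsPosRoot r ∧ chevG2.InRootSub Set.univ r)) h2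
  exact conj_eq_one_iff.1 ((Subgroup.eq_bot_iff_forall _).1 (goodG2.borel_inf_neg (F := K)) _
    (Subgroup.mem_inf.2 ⟨hb, hV⟩))

theorem conj_nW_Hr (hK : Fintype.card K = 3 ^ (2 * m + 1)) {h : GL chevG2.Idx K} (hh : h ∈ Hr K m) :
    nW * h * nW⁻¹ ∈ Hr K m := by
  obtain ⟨h1, h2⟩ := Subgroup.mem_inf.1 hh
  exact Subgroup.mem_inf.2 ⟨goodG2.diagonal_normalized nW_mon h1,
    mul_mem (mul_mem (nW_mem hK) h2) (inv_mem (nW_mem hK))⟩

/-- The transfer to the twisted data. -/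
theorem data_facts (hK : Fintype.card K = 3 ^ (2 * m + 1)) [CharP K 3] :
    (∀ g : ↥(chevG2.group K), g ∈ (reeSetup K hK).data.G1 ↔ (g : GL chevG2.Idx K) ∈ Gr K m) ∧
    (∀ g : ↥(chevG2.group K), g ∈ (reeSetup K hK).data.U1 ↔ (g : GL chevG2.Idx K) ∈ Ur K m) ∧
    (∀ g : ↥(chevG2.group K), g ∈ (reeSetup K hK).data.H0 ↔ (g : GL chevG2.Idx K) ∈ Hr K m) := by
  refine ⟨fun g => ?_, fun g => ?_, fun g => ?_⟩
  · rw [(reeSetup K hK).G1_eq]
    rfl
  · rw [← (reeSetup K hK).U_inf_W]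
    rfl
  · rfl

/-- The Bruhat decomposition. -/
theorem decomp (hK : Fintype.card K = 3 ^ (2 * m + 1)) {g : GL chevG2.Idx K} (hg : g ∈ Gr K m) :
    g ∈ Br K m ∨ ∃ b ∈ Br K m, ∃ u ∈ Ur K m, g = b * nW * u := by
  haveI := (field_data hK).1
  obtain ⟨fG, fU, fH⟩ := data_facts hK
  set T := (reeSetup K hK).data with hT
  have hN : ∀ x ∈ T.N0, x ∈ T.H0 ∨ (reeN K)⁻¹ * x ∈ T.H0 := by
    have hn : reeN K ∈ T.N0 := T.nS_mem_N0 ()
    intro x hx
    rw [H47.TwistData.N0, ← Subgroup.closure_eq T.H0, ← Subgroup.closure_union] at hx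
    induction hx using Subgroup.closure_induction_left with
    | one => exact Or.inl (one_mem _)
    | mul_left a ha y _ ih =>
      rcases ha with ⟨⟨⟩, rfl⟩ | ha
      · rcases ih with h | h
        · exact Or.inr (by rw [show T.nS () = reeN K from rfl, inv_mul_cancel_left]; exact h)
        · refine Or.inl ?_
          rw [show T.nS () * y = T.nS () * T.nS () * ((T.nS ())⁻¹ * y) by group]
          exact mul_mem (T.nS_sq ()) h
      · rcases ih with h | h
        · exact Or.inl (mul_mem ha h)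
        · refine Or.inr ?_
          rw [show (reeN K)⁻¹ * (a * y) = (reeN K)⁻¹ * a * reeN K * ((reeN K)⁻¹ * y) by group]
          exact mul_mem (T.H0_conj' () ha) h
    | inv_mul_cancel a ha y _ ih =>
      rcases ha with ⟨⟨⟩, rfl⟩ | ha
      · rcases ih with h | h
        · refine Or.inr ?_
          rw [show T.nS () = reeN K from rfl,
            show (reeN K)⁻¹ * ((reeN K)⁻¹ * y) = (reeN K * reeN K)⁻¹ * y by group]
          exact mul_mem (inv_mem (T.nS_sq ())) h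
        · exact Or.inl h
      · rcases ih with h | h
        · exact Or.inl (mul_mem (inv_mem ha) h)
        · refine Or.inr ?_
          rw [show (reeN K)⁻¹ * (a⁻¹ * y) = (reeN K)⁻¹ * a⁻¹ * reeN K * ((reeN K)⁻¹ * y) by group]
          exact mul_mem (T.H0_conj' () (inv_mem ha)) h
  obtain ⟨x, hx, hcell⟩ := T.exists_cell (g := ⟨g, twistedG2_le hg⟩) ((fG _).2 hg)
  obtain ⟨v, hv, k, hk, v', hv', e⟩ := hcell
  have e' : g = (v : GL chevG2.Idx K) * ((x : GL chevG2.Idx K) * k) * v' := congrArg Subtype.val e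
  have hv2 := (fU _).1 hv
  have hv'2 := (fU _).1 hv'
  rcases hN x hx with h | h
  · exact Or.inl (e' ▸ mul_mem (mul_mem (Ur_le_Br hv2) (mul_mem (Hr_le_Br ((fH _).1 h)) (Hr_le_Br ((fH _).1 hk))))
      (Ur_le_Br hv'2))
  · right
    have hh := (fH _).1 (mul_mem h hk)
    have hc := conj_nW_Hr hK hh
    refine ⟨_, mul_mem (Ur_le_Br hv2) (Hr_le_Br hc), _, hv'2, ?_⟩
    rw [e']
    simp only [Subgroup.coe_mul, Subgroup.coe_inv]
    group

/-- The Borel subgroup is the product of the unipotent and the diagonal subgroup. -/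
theorem mem_Br (hK : Fintype.card K = 3 ^ (2 * m + 1)) {b : GL chevG2.Idx K} (hb : b ∈ Br K m) :
    ∃ u ∈ Ur K m, ∃ h ∈ Hr K m, b = u * h := by
  haveI := (field_data hK).1
  obtain ⟨fG, fU, fH⟩ := data_facts hK
  obtain ⟨hb1, hb2⟩ := Subgroup.mem_inf.1 hb
  obtain ⟨u, hu, h, hh, rfl⟩ := goodG2.mem_borel.1 hb1
  set T := (reeSetup K hK).data with hT
  obtain ⟨h3, h4⟩ := T.G1_inf_UH (g := ⟨u * h, twistedG2_le hb2⟩)
    (u := ⟨u, goodG2.posUnipotent_le_group hu⟩) (h := ⟨h, goodG2.diagonal_le_group hh⟩) ((fG _).2 hb2)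
    (by rw [(reeSetup K hK).data_U]; exact hu) hh rfl
  exact ⟨u, (fU _).1 h3, h, (fH _).1 h4, rfl⟩

theorem card_Ur (hK : Fintype.card K = 3 ^ (2 * m + 1)) : Nat.card ↥(Ur K m) = (3 ^ (2 * m + 1)) ^ 3 := by
  haveI := (field_data hK).1
  have e : Nat.card (K × K × K) = (3 ^ (2 * m + 1)) ^ 3 := by
    rw [Nat.card_prod, Nat.card_prod, Nat.card_eq_fintype_card, hK]
    ring
  rw [← e]
  refine (Nat.card_eq_of_bijective (fun p => ⟨W (3 ^ m) p.1 p.2.1 p.2.2, W_mem_U _ _ _ _⟩) ⟨?_, ?_⟩).symm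
  · intro p p' h
    obtain ⟨h1, h2, h3⟩ := W_injective (congrArg Subtype.val h)
    exact Prod.ext h1 (Prod.ext h2 h3)
  · rintro ⟨g, hg⟩
    obtain ⟨t, u, v, rfl⟩ := uShape hK g hg
    exact ⟨(t, u, v), rfl⟩

end Cfsg.Agent.H48.Ree
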