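import Cfsg.Agent.H48.Ree.InvCent

/-!
The centraliser of an involution of the small Ree group as a product, and its Sylow two-subgroups.
-/

set_option autoImplicit false

open Cfsg.Lie Cfsg.Agent.H46
open scoped Matrix MatrixGroups

namespace Cfsg.Agent.H48.Ree

theorem ofAdd_one_sq : Multiplicative.ofAdd (1 : ZMod 2) * Multiplicative.ofAdd 1 = 1 := by decide

theorem zmod_two_cases : ∀ c : ZMod 2, c = 0 ∨ c = 1 := by decide

theorem triple_sq : ∀ p : Multiplicative (ZMod 2) × Multiplicative (ZMod 2) × Multiplicative (ZMod 2),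
    p * p = 1 := by decide

variable {K : Type*} [Field K] [Fintype K] {m : ℕ}

/-- The centraliser of a diagonal involution is `Z₂ × PSL₂`. -/
theorem centralizer_mulEquiv (hK : Fintype.card K = 3 ^ (2 * m + 1)) (a : ↥(Gr K m))
    (haH : (a : GL chevG2.Idx K) ∈ chevG2.diagonalSubgroup K) (ha1 : a ≠ 1) (ha2 : a * a = 1) :
    Nonempty (↥(Subgroup.centralizer ({a} : Set ↥(Gr K m))) ≃*
      Multiplicative (ZMod 2) × Matrix.ProjectiveSpecialLinearGroup (Fin 2) K) := by
  classical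
  obtain ⟨Φ, hsurj, hker⟩ := centralizer_involution hK a haH ha1 ha2
  let Ψ : Multiplicative (ZMod 2) × SL(2, K) →*
      Multiplicative (ZMod 2) × Matrix.ProjectiveSpecialLinearGroup (Fin 2) K :=
    (MonoidHom.id (Multiplicative (ZMod 2))).prodMap (QuotientGroup.mk' (Subgroup.center SL(2, K)))
  have hΨ : Function.Surjective Ψ := by
    rintro ⟨i, g⟩
    obtain ⟨g, rfl⟩ := QuotientGroup.mk'_surjective (Subgroup.center SL(2, K)) g
    exact ⟨(i, g), rfl⟩
  have e : Φ.ker = Ψ.ker := by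
    ext ⟨i, g⟩
    rw [MonoidHom.mem_ker, MonoidHom.mem_ker, hker]
    show _ ↔ (i, QuotientGroup.mk' (Subgroup.center SL(2, K)) g) = 1
    rw [Prod.mk_eq_one, QuotientGroup.mk'_apply, QuotientGroup.eq_one_iff]
  exact ⟨((QuotientGroup.quotientKerEquivOfSurjective Φ hsurj).symm.trans
    (QuotientGroup.quotientMulEquivOfEq e)).trans (QuotientGroup.quotientKerEquivOfSurjective Ψ hΨ)⟩

/-- The two-part of the order of the small Ree group is eight. -/
theorem card_two_part (hK : Fintype.card K = 3 ^ (2 * m + 1))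
    (hH : Nat.card ↥(Hr K m) = 3 ^ (2 * m + 1) - 1) :
    ∃ o, Odd o ∧ Nat.card ↥(Gr K m) = 8 * o := by
  obtain ⟨k, hk, hk2⟩ := exists_half m
  have h8 : (3 ^ (2 * m + 1)) ^ 3 % 8 = 3 := by
    rw [Nat.pow_mod, pow_succ 3 (2 * m), pow_mul, Nat.mul_mod, Nat.pow_mod (3 ^ 2)]
    simp
  have hodd : Odd ((3 ^ (2 * m + 1)) ^ 3) := Odd.pow (Odd.pow (by decide))
  rw [card_Gr hK, hH, hk2]
  generalize (3 ^ (2 * m + 1)) ^ 3 = n at h8 hodd ⊢
  obtain ⟨j, hj, hj2⟩ : ∃ j, Odd j ∧ 1 + n = 4 * j := ⟨(1 + n) / 4, Nat.odd_iff.2 (by omega), by omega⟩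
  exact ⟨n * k * j, (hodd.mul hk).mul hj, by rw [hj2]; ring⟩

/-- The Sylow two-subgroups are elementary abelian of order eight. -/
theorem sylow_two_elementary (hK : Fintype.card K = 3 ^ (2 * m + 1))
    (hH : Nat.card ↥(Hr K m) = 3 ^ (2 * m + 1) - 1) (a : ↥(Gr K m))
    (haH : (a : GL chevG2.Idx K) ∈ chevG2.diagonalSubgroup K) (ha1 : a ≠ 1) (ha2 : a * a = 1)
    (S : Sylow 2 ↥(Gr K m)) : Nat.card S = 8 ∧ ∀ x ∈ S, x * x = 1 := by
  classical
  haveI := (field_data hK).1
  haveI : Fact (Nat.Prime 2) := ⟨Nat.prime_two⟩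
  obtain ⟨Φ, -, hker⟩ := centralizer_involution hK a haH ha1 ha2
  let C := Subgroup.centralizer ({a} : Set ↥(Gr K m))
  obtain ⟨a', b', hab⟩ := CharP.sq_add_sq K 3 (-1 : ℤ)
  obtain ⟨x, y, hxy⟩ : ∃ x y : K, x ^ 2 + y ^ 2 = -1 := ⟨a', b', by simpa using hab⟩
  let u : SL(2, K) := ⟨!![x, y; y, -x], by rw [Matrix.det_fin_two_of]; linear_combination -hxy⟩
  let z : SL(2, K) := ⟨!![-1, 0; 0, -1], by rw [Matrix.det_fin_two_of]; ring⟩
  have hzc : z ∈ Subgroup.center SL(2, K) := by
    rw [Matrix.SpecialLinearGroup.mem_center_iff]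
    refine ⟨-1, by simp, ?_⟩
    ext i j; fin_cases i <;> fin_cases j <;> simp [z]
  have e1 : (slW : SL(2, K)) * slW = z := by
    apply Subtype.ext; ext i j
    fin_cases i <;> fin_cases j <;> simp [z, coe_slW, sl_mul_val, Matrix.mul_apply, Fin.sum_univ_two]
  have e2 : u * u = z := by
    apply Subtype.ext; ext i j
    show (u.1 * u.1) i j = z.1 i j
    fin_cases i <;> fin_cases j <;> simp [z, u, sl_mul_val, Matrix.mul_apply, Fin.sum_univ_two] <;>
      first
      | linear_combination hxy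
      | ring
  have e3 : slW * u = z * (u * slW) := by
    apply Subtype.ext; ext i j
    show ((slW (F := K)).1 * u.1) i j = (z.1 * (u.1 * (slW (F := K)).1)) i j
    fin_cases i <;> fin_cases j <;> simp [z, u, coe_slW, sl_mul_val, Matrix.mul_apply, Fin.sum_univ_two]
  have hone : ∀ g ∈ Subgroup.center SL(2, K), Φ (1, g) = 1 := fun g hg => (hker (1, g)).2 ⟨rfl, hg⟩
  let A : ↥C := Φ (Multiplicative.ofAdd 1, 1)
  let X : ↥C := Φ (1, slW)
  let Y : ↥C := Φ (1, u)
  let zh : ∀ g : ↥C, g * g = 1 → Multiplicative (ZMod 2) →* ↥C := fun g hg =>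
    MonoidHom.mk' (fun c => g ^ (Multiplicative.toAdd c).val) fun c d => by
      rw [toAdd_mul, ZMod.val_add, ← pow_eq_pow_mod _ (by rw [sq]; exact hg), pow_add]
  have hA : A * A = 1 := by
    rw [← map_mul, Prod.mk_mul_mk, mul_one, ofAdd_one_sq]
    exact map_one Φ
  have hX : X * X = 1 := by rw [← map_mul, Prod.mk_mul_mk, one_mul, e1]; exact hone _ hzc
  have hY : Y * Y = 1 := by rw [← map_mul, Prod.mk_mul_mk, one_mul, e2]; exact hone _ hzc
  have hXY : Commute X Y := by
    show X * Y = Y * X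
    rw [← map_mul, ← map_mul, Prod.mk_mul_mk, Prod.mk_mul_mk, one_mul, e3,
      show ((1 : Multiplicative (ZMod 2)), z * (u * slW)) = (1, z) * (1, u * slW) by rw [Prod.mk_mul_mk, one_mul],
      map_mul, hone z hzc, one_mul]
  have hAX : Commute A X := by
    show A * X = X * A
    rw [← map_mul, ← map_mul, Prod.mk_mul_mk, Prod.mk_mul_mk, one_mul, mul_one, one_mul, mul_one]
  have hAY : Commute A Y := by
    show A * Y = Y * A
    rw [← map_mul, ← map_mul, Prod.mk_mul_mk, Prod.mk_mul_mk, one_mul, mul_one, one_mul, mul_one]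
  let g23 := (zh X hX).noncommCoprod (zh Y hY) fun c d => (hXY.pow_pow _ _)
  let f : Multiplicative (ZMod 2) × Multiplicative (ZMod 2) × Multiplicative (ZMod 2) →* ↥C :=
    (zh A hA).noncommCoprod g23 fun c d => ((hAX.pow_pow _ _).mul_right (hAY.pow_pow _ _))
  have hu1 : ∀ g : SL(2, K), g.1 0 0 = -g.1 1 1 → g ∉ Subgroup.center SL(2, K) := by
    intro g hg hc
    obtain ⟨r, hr, hr'⟩ := Matrix.SpecialLinearGroup.mem_center_iff.1 hc
    rw [← hr'] at hg
    simp only [Matrix.scalar_apply, Matrix.diagonal_apply_eq] at hg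
    rw [Fintype.card_fin] at hr
    have h2 : r = 0 := by linear_combination r * (three0 (F := K)) - hg
    rw [h2] at hr
    norm_num at hr
  have hfval : ∀ i j k, f (i, j, k) = Φ (i, slW ^ (Multiplicative.toAdd j).val * u ^ (Multiplicative.toAdd k).val) := by
    intro i j k
    show A ^ (Multiplicative.toAdd i).val * (X ^ (Multiplicative.toAdd j).val * Y ^ (Multiplicative.toAdd k).val) = _
    rw [← map_pow, ← map_pow, ← map_pow, ← map_mul, ← map_mul]
    congr 1
    simp only [Prod.pow_mk, Prod.mk_mul_mk, one_pow, mul_one, one_mul]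
    congr 1
    rcases zmod_two_cases (Multiplicative.toAdd i) with h | h
    · rw [h, ZMod.val_zero, pow_zero]; exact h.symm
    · rw [h, show ((1 : ZMod 2)).val = 1 from rfl, pow_one]; exact h.symm
  have hinj : Function.Injective f := by
    rw [injective_iff_map_eq_one]
    rintro ⟨i, j, k⟩ h
    rw [hfval, hker] at h
    obtain ⟨rfl, hc⟩ := h
    rcases zmod_two_cases (Multiplicative.toAdd j) with hj | hj <;>
      rcases zmod_two_cases (Multiplicative.toAdd k) with hk | hk <;>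
      simp only [hj, hk, ZMod.val_zero, show ((1 : ZMod 2)).val = 1 from rfl, pow_zero, pow_one, one_mul, mul_one] at hc
    · exact Prod.ext rfl (Prod.ext hj hk)
    · exact absurd hc (hu1 _ (by simp [u]))
    · exact absurd hc (hu1 _ (by simp [coe_slW]))
    · refine absurd hc (hu1 _ ?_)
      show ((slW (F := K)).1 * u.1) 0 0 = -((slW (F := K)).1 * u.1) 1 1
      simp [u, coe_slW, Matrix.mul_apply, Fin.sum_univ_two]
  let F' := (C.subtype.comp f)
  have hF : Function.Injective F' := C.subtype_injective.comp hinj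
  have hcard : Nat.card ↥F'.range = 2 ^ 3 := by
    rw [← Nat.card_congr (MonoidHom.ofInjective hF).toEquiv, Nat.card_prod, Nat.card_prod,
      Nat.card_congr Multiplicative.toAdd, Nat.card_zmod]
    norm_num
  have hexp : ∀ x ∈ F'.range, x * x = 1 := by
    rintro x ⟨p, rfl⟩
    rw [← map_mul, triple_sq p, map_one]
  have hidx : ¬ 2 ∣ F'.range.index := by
    obtain ⟨o, ho, hG⟩ := card_two_part hK hH
    have hmul := F'.range.card_mul_index
    rw [hcard, hG] at hmul
    rw [Nat.eq_of_mul_eq_mul_left (by norm_num : 0 < 2 ^ 3) hmul]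
    exact ho.not_two_dvd_nat
  let T : Sylow 2 ↥(Gr K m) := (IsPGroup.of_card hcard).toSylow hidx
  have hT : (T : Subgroup ↥(Gr K m)) = F'.range := IsPGroup.toSylow_coe _ _
  refine ⟨?_, fun s hs => ?_⟩
  · rw [Nat.card_congr (S.equiv T).toEquiv]
    exact (congrArg (fun H : Subgroup ↥(Gr K m) => Nat.card ↥H) hT).trans hcard
  · have h := congrArg (fun H : Subgroup ↥(Gr K m) => ∀ x ∈ H, x * x = 1) hT
    have hT' : ∀ x ∈ (T : Subgroup ↥(Gr K m)), x * x = 1 := h.mpr hexp
    obtain ⟨g, rfl⟩ := MulAction.exists_smul_eq ↥(Gr K m) T S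
    have hs' : s ∈ ((g • T : Sylow 2 ↥(Gr K m)) : Subgroup ↥(Gr K m)) := hs
    rw [Sylow.coe_subgroup_smul, Subgroup.mem_pointwise_smul_iff_inv_smul_mem] at hs'
    have h2 := hT' _ hs'
    rw [← smul_mul'] at h2
    rwa [smul_eq_iff_eq_inv_smul, inv_inv, smul_one] at h2

end Cfsg.Agent.H48.Ree
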