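import Cfsg.Agent.H48.Ree.ThreePoint
import Cfsg.Agent.H46.SL2Hom

/-!
The centraliser of an involution of the diagonal subgroup of the small Ree group: it is generated by
the involution and a homomorphic image of SL₂ attached to the orthogonal roots a+b and 3a+b.
-/

set_option autoImplicit false

open Cfsg.Lie Cfsg.Agent.H46 Cfsg.Agent.H65.Twist
open scoped Matrix MatrixGroups

namespace Cfsg.Agent.H48.Ree

variable {K : Type*} [Field K]

/-- `diag(s, s⁻¹)`. -/
def slD (s : Kˣ) : SL(2, K) := ⟨!![(s : K), 0; 0, ((s⁻¹ : Kˣ) : K)], by simp [Matrix.det_fin_two]⟩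

theorem coe_slD (s : Kˣ) : (slD s).1 = !![(s : K), 0; 0, ((s⁻¹ : Kˣ) : K)] := rfl

theorem slMap_D {r : ℕ} (s : Kˣ) : goodG2.slMap r (slD s) = goodG2.hg r (s : K) := by
  rw [goodG2.slMap_pos (by simp [coe_slD])]
  simp [coe_slD, goodG2.xg_zero]

theorem upper_decomp {g : SL(2, K)} (hc : g.1 1 0 = 0) :
    ∃ (s : Kˣ) (b : K), g.1 0 0 = (s : K) ∧ g = slD s * slX b := by
  have hdet := sl_det g
  rw [hc, mul_zero, sub_zero] at hdet
  have ha : g.1 0 0 ≠ 0 := left_ne_zero_of_mul (hdet ▸ one_ne_zero)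
  refine ⟨Units.mk0 _ ha, g.1 0 1 / g.1 0 0, rfl, ?_⟩
  apply Subtype.ext
  ext i j
  fin_cases i <;> fin_cases j <;>
    simp [sl_mul_val, coe_slD, coe_slX, Matrix.mul_apply, Fin.sum_univ_two, hc] <;> field_simp
  linear_combination hdet

theorem lower_decomp {g : SL(2, K)} (hc : g.1 1 0 ≠ 0) :
    ∃ (s : Kˣ) (x y : K), g = slX x * slW * slD s * slX y := by
  have hdet := sl_det g
  refine ⟨Units.mk0 _ (neg_ne_zero.2 hc), g.1 0 0 / g.1 1 0, g.1 1 1 / g.1 1 0, ?_⟩
  apply Subtype.ext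
  ext i j
  fin_cases i <;> fin_cases j <;>
    simp [coe_slD, coe_slX, coe_slW, Matrix.mul_apply, Fin.sum_univ_two] <;> field_simp
  linear_combination -hdet

variable [Fintype K] {m : ℕ}

/-- The homomorphism attached to the roots a+b and 3a+b. -/
theorem exists_ree_sl (hK : Fintype.card K = 3 ^ (2 * m + 1)) :
    ∃ φ : SL(2, K) →* GL chevG2.Idx K, (∀ g, φ g ∈ Gr K m) ∧
      (∀ u, φ (slX u) = W (3 ^ m) 0 u 0) ∧
      (∀ u, φ (slY u) = goodG2.xg 3 (u ^ 3 ^ m) * goodG2.xg 1 u) ∧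
      (∀ s : Kˣ, φ (slD s) = goodG2.hg 8 ((s : K) ^ 3 ^ m) * goodG2.hg 10 (s : K)) := by
  haveI := (field_data hK).1
  haveI : Fact (Nat.Prime 3) := ⟨Nat.prime_three⟩
  set σ : K →+* K := iterateFrobenius K 3 m with hσdef
  have hσ : ∀ x, σ x = x ^ 3 ^ m := fun x => iterateFrobenius_def 3 m x
  have hr8 : 8 < chevG2.nroots := by decide +kernel
  have hr10 : 10 < chevG2.nroots := by decide +kernel
  obtain ⟨φ8, hrg8, h8⟩ := goodG2.exists_slHom (F := K) hr8
  obtain ⟨φ10, hrg10, h10⟩ := goodG2.exists_slHom (F := K) hr10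
  have hn8 : chevG2.neg 8 = 3 := by decide +kernel
  have hn10 : chevG2.neg 10 = 1 := by decide +kernel
  have x8 : ∀ t, φ8 (slX t) = goodG2.xg 8 t := fun t => goodG2.eq_xg ((h8 _ t).1 rfl)
  have y8 : ∀ t, φ8 (slY t) = goodG2.xg 3 t := fun t => hn8 ▸ goodG2.eq_xg ((h8 _ t).2 rfl)
  have x10 : ∀ t, φ10 (slX t) = goodG2.xg 10 t := fun t => goodG2.eq_xg ((h10 _ t).1 rfl)
  have y10 : ∀ t, φ10 (slY t) = goodG2.xg 1 t := fun t => hn10 ▸ goodG2.eq_xg ((h10 _ t).2 rfl)
  have hWgen : ∀ {H : Subgroup SL(2, K)}, (∀ t, slX t ∈ H) → (∀ t, slY t ∈ H) → slW ∈ H := by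
    intro H hX hY
    have e : (slW : SL(2, K)) = slX 1 * slY (-1) * slX 1 := by
      apply Subtype.ext
      ext i j
      fin_cases i <;> fin_cases j <;>
        simp [sl_mul_val, coe_slW, coe_slX, coe_slY, Matrix.mul_apply, Fin.sum_univ_two]
    rw [e]
    exact mul_mem (mul_mem (hX _) (hY _)) (hX _)
  -- the two images commute
  have hcom : ∀ r ∈ [8, 3], ∀ s ∈ [10, 1], r < chevG2.nroots ∧ s < chevG2.nroots ∧ s ≠ r ∧ s ≠ chevG2.neg r ∧
      chevG2.commTerms r s = [] := by decide +kernel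
  have hcx : ∀ r ∈ [8, 3], ∀ s ∈ [10, 1], ∀ t u : K, Commute (goodG2.xg r t) (goodG2.xg s u) := by
    intro r hr s hs t u
    obtain ⟨a1, a2, a3, a4, a5⟩ := hcom r hr s hs
    exact Cfsg.Agent.H65.xg_commute goodG2 a1 a2 a3 a4 (fun c hc' => by rw [a5] at hc'; simp at hc') t u
  have hcomm : ∀ g h : SL(2, K), Commute (φ8 g) (φ10 h) := by
    intro g
    have h1 : ∀ r ∈ [8, 3], ∀ (t : K) (h : SL(2, K)), Commute (goodG2.xg r t) (φ10 h) := by
      intro r hr t h
      have hh : h ∈ (Subgroup.centralizer {goodG2.xg r t}).comap φ10 := by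
        refine sl_generated _ (fun u => ?_) (hWgen (fun u => ?_) fun u => ?_) h <;>
          rw [Subgroup.mem_comap, Subgroup.mem_centralizer_singleton_iff]
        · rw [x10]; exact (hcx r hr 10 (by simp) t u).eq.symm
        · rw [x10]; exact (hcx r hr 10 (by simp) t u).eq.symm
        · rw [y10]; exact (hcx r hr 1 (by simp) t u).eq.symm
      exact (Subgroup.mem_centralizer_singleton_iff.1 (Subgroup.mem_comap.1 hh)).symm
    intro h
    have hg : g ∈ (Subgroup.centralizer {φ10 h}).comap φ8 := by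
      refine sl_generated _ (fun u => ?_) (hWgen (fun u => ?_) fun u => ?_) g <;>
        rw [Subgroup.mem_comap, Subgroup.mem_centralizer_singleton_iff]
      · rw [x8]; exact (h1 8 (by simp) u h).eq
      · rw [x8]; exact (h1 8 (by simp) u h).eq
      · rw [y8]; exact (h1 3 (by simp) u h).eq
    exact Subgroup.mem_centralizer_singleton_iff.1 (Subgroup.mem_comap.1 hg)
  let σS : SL(2, K) →* SL(2, K) := Matrix.SpecialLinearGroup.map σ
  let φ : SL(2, K) →* GL chevG2.Idx K := MonoidHom.mk' (fun g => φ8 (σS g) * φ10 g) fun g h => by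
    rw [map_mul, map_mul, map_mul, mul_assoc, ← mul_assoc (φ8 (σS h)), (hcomm (σS h) g).eq]
    simp only [mul_assoc]
  have sX : ∀ u, σS (slX u) = slX (σ u) := fun u => by
    apply Subtype.ext; ext i j; fin_cases i <;> fin_cases j <;> simp [σS, coe_slX]
  have sY : ∀ u, σS (slY u) = slY (σ u) := fun u => by
    apply Subtype.ext; ext i j; fin_cases i <;> fin_cases j <;> simp [σS, coe_slY]
  have pX : ∀ u, φ (slX u) = W (3 ^ m) 0 u 0 := fun u => by
    show φ8 (σS (slX u)) * φ10 (slX u) = _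
    rw [sX, x8, x10, hσ]
    simp [W, P, goodG2.xg_zero]
  have pY : ∀ u, φ (slY u) = goodG2.xg 3 (u ^ 3 ^ m) * goodG2.xg 1 u := fun u => by
    show φ8 (σS (slY u)) * φ10 (slY u) = _
    rw [sY, y8, y10, hσ]
  refine ⟨φ, fun g => ?_, pX, pY, fun s => ?_⟩
  · show g ∈ (Gr K m).comap φ
    have hX : ∀ u, slX u ∈ (Gr K m).comap φ := fun u => by
      rw [Subgroup.mem_comap, pX]; exact W_mem_twisted _ _ _ _
    refine sl_generated _ hX (hWgen hX fun u => ?_) g
    rw [Subgroup.mem_comap, pY]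
    refine Subgroup.subset_closure ⟨reeWordV (3 ^ m) 0 (-u) 0, ⟨0, -u, 0, Or.inr rfl⟩, ?_⟩
    have hx0 : ∀ r, chevG2.x K r 0 = 1 := fun r => goodG2.x_zero' r
    have hodd : Odd (3 ^ m) := Odd.pow (by decide)
    have hi : chevG2.negIdx[7]?.getD 0 = 4 ∧ chevG2.negIdx[6]?.getD 0 = 5 ∧ chevG2.negIdx[8]?.getD 0 = 3 ∧
        chevG2.negIdx[9]?.getD 0 = 2 ∧ chevG2.negIdx[10]?.getD 0 = 1 ∧ chevG2.negIdx[11]?.getD 0 = 0 := by decide +kernel
    simp [reeWordV, reeWordU, ChevalleyDatum.negWord, g2a, g2b, g2ab, g2aab, g2aaab, g2aaabb,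
      ChevalleyDatum.wordMat, hi.1, hi.2.1, hi.2.2.1, hi.2.2.2.1, hi.2.2.2.2.1, hi.2.2.2.2.2, hx0,
      hodd.neg_pow, goodG2.coe_xg]
  · have e : ∀ (r : ℕ) (hr : r < chevG2.nroots) (ψ : SL(2, K) →* GL chevG2.Idx K),
        (∀ t, ψ (slX t) = goodG2.xg r t) → (∀ t, ψ (slY t) = goodG2.xg (chevG2.neg r) t) →
        ∀ t : Kˣ, ψ (slD t) = goodG2.hg r (t : K) := by
      intro r hr ψ hx hy t
      have hNt : ∀ c : Kˣ, slX (c : K) * slY (-((c⁻¹ : Kˣ) : K)) * slX (c : K) * (slX (-1) * slY 1 * slX (-1)) =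
          slD c := by
        intro c
        apply Subtype.ext
        ext i j
        fin_cases i <;> fin_cases j <;>
          simp [sl_mul_val, coe_slD, coe_slX, coe_slY, Matrix.mul_apply, Fin.sum_univ_two]
      rw [← hNt t]
      simp only [map_mul, hx, hy, Good.hg, Good.ng, Units.val_inv_eq_inv_val, inv_neg, inv_one, neg_neg]
    have sD : σS (slD s) = slD (Units.map (σ : K →* K) s) := by
      apply Subtype.ext; ext i j; fin_cases i <;> fin_cases j <;> simp [σS, coe_slD]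
    show φ8 (σS (slD s)) * φ10 (slD s) = _
    rw [sD, e 8 hr8 φ8 x8 (hn8.symm ▸ y8), e 10 hr10 φ10 x10 (hn10.symm ▸ y10)]
    simp [hσ]

theorem hg_conj_eight_ten {c d : K} (hc : c ≠ 0) (hd : d ≠ 0) (t : K) :
    goodG2.hg 8 c * goodG2.hg 10 d * goodG2.xg 6 t =
      goodG2.xg 6 (c ^ chevG2.pairing 8 6 * (d ^ chevG2.pairing 10 6 * t)) * (goodG2.hg 8 c * goodG2.hg 10 d) := by
  rw [mul_assoc, goodG2.hg_mul_xg (by decide +kernel) (by decide +kernel) hd, ← mul_assoc,
    goodG2.hg_mul_xg (by decide +kernel) (by decide +kernel) hc, mul_assoc]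

theorem pairing_vals : chevG2.pairing 8 6 = 3 ∧ chevG2.pairing 10 6 = -1 := by decide +kernel

/-- A diagonal element is recognised from its action on the root subgroup of the long fundamental root. -/
theorem param_eq_of_six [CharP K 3] {ψ : ↥(Hr K m) →* Kˣ}
    (hact : ∀ (h : ↥(Hr K m)) (t u v : K), (h : GL chevG2.Idx K) * W (3 ^ m) t u v * (h : GL chevG2.Idx K)⁻¹ =
      W (3 ^ m) ((ψ h : K) * t) ((ψ h : K) ^ (3 * 3 ^ m + 1) * u) ((ψ h : K) ^ (3 * 3 ^ m + 2) * v))
    (h : ↥(Hr K m)) {c : K} (hc : (h : GL chevG2.Idx K) * goodG2.xg 6 1 = goodG2.xg 6 c * (h : GL chevG2.Idx K)) :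
    (ψ h : K) = c := by
  obtain ⟨z, hz⟩ := goodG2.mem_diagonal.1 (Subgroup.mem_inf.1 h.2).1
  have h1 := hact h 1 0 0
  rw [hz, torus_conj_W] at h1
  obtain ⟨-, hb, -, -, -, -⟩ := P_injective h1
  rw [mul_one, mul_one] at hb
  rw [← hb]
  rw [hz, goodG2.torus_mul_xg z (by decide +kernel), mul_one] at hc
  exact goodG2.xg_injective (by decide +kernel) (mul_right_cancel hc)

omit [Fintype K] in
theorem unit_eq_one_or_neg_one {x : Kˣ} (h : x ^ 2 = 1) : x = 1 ∨ x = -1 := by
  rcases sq_eq_one_iff.1 (show (x : K) ^ 2 = 1 by rw [← Units.val_pow_eq_pow_val, h, Units.val_one]) with h' | h'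
  · exact Or.inl (Units.ext h')
  · exact Or.inr (Units.ext (by rw [h', Units.val_neg, Units.val_one]))

omit [Fintype K] in
theorem neg_one_ne_one [CharP K 3] : (-1 : Kˣ) ≠ 1 := by
  intro h
  have h' : (-1 : K) = 1 := by simpa using congrArg (fun x : Kˣ => (x : K)) h
  exact one_ne_zero (α := K) (by linear_combination (three0 (F := K)) + h')

open Classical in
/-- The centraliser of a diagonal involution: a surjection from `Z₂ × SL₂` with kernel the centre of `SL₂`. -/
theorem centralizer_involution (hK : Fintype.card K = 3 ^ (2 * m + 1)) (a : ↥(Gr K m))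
    (haH : (a : GL chevG2.Idx K) ∈ chevG2.diagonalSubgroup K) (ha1 : a ≠ 1) (ha2 : a * a = 1) :
    ∃ Φ : Multiplicative (ZMod 2) × SL(2, K) →* ↥(Subgroup.centralizer ({a} : Set ↥(Gr K m))),
      Function.Surjective Φ ∧ ∀ x, Φ x = 1 ↔ x.1 = 1 ∧ x.2 ∈ Subgroup.center SL(2, K) := by
  haveI := (field_data hK).1
  have hq := (field_data hK).2
  obtain ⟨φ, hφG, pX, pY, pD⟩ := exists_ree_sl hK
  obtain ⟨ψ, hψ, hact⟩ := exists_param (uShape hK)
  have hodd : Odd (3 ^ m) := Odd.pow (by decide)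
  let A : ↥(Hr K m) := ⟨a, Subgroup.mem_inf.2 ⟨haH, a.2⟩⟩
  have hψA : ψ A = -1 := by
    refine (unit_eq_one_or_neg_one ?_).resolve_left fun h => ha1 ?_
    · rw [sq, ← map_mul, show A * A = 1 from Subtype.ext (congrArg (fun x : ↥(Gr K m) => (x : GL chevG2.Idx K)) ha2), map_one]
    · exact Subtype.ext (congrArg (fun x : ↥(Hr K m) => (x : GL chevG2.Idx K)) (hψ (h.trans (map_one ψ).symm)))
  -- the diagonal part of the image
  have hdD : ∀ s, φ (slD s) ∈ Hr K m := fun s => by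
    refine Subgroup.mem_inf.2 ⟨?_, hφG _⟩
    rw [pD]
    exact mul_mem (goodG2.hg_mem_diagonal (by decide +kernel) (pow_ne_zero _ s.ne_zero))
      (goodG2.hg_mem_diagonal (by decide +kernel) s.ne_zero)
  have hf : ∀ s : Kˣ, ψ ⟨φ (slD s), hdD s⟩ = s ^ (3 * 3 ^ m) * s⁻¹ := fun s => by
    refine Units.ext (param_eq_of_six hact _ ?_)
    show φ (slD s) * _ = _ * φ (slD s)
    rw [pD, hg_conj_eight_ten (pow_ne_zero _ s.ne_zero) s.ne_zero, pairing_vals.1, pairing_vals.2]
    congr 2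
    rw [zpow_neg, zpow_one, mul_one, show (3 : ℤ) = ((3 : ℕ) : ℤ) from rfl, zpow_natCast, ← pow_mul,
      Units.val_mul, Units.val_pow_eq_pow_val, Units.val_inv_eq_inv_val, mul_comm (3 ^ m) 3]
  have hq' : ∀ s : Kˣ, s ^ 3 ^ (2 * m + 1) = s := fun s =>
    Units.ext (by rw [Units.val_pow_eq_pow_val]; exact hq _)
  have h99 : ∀ s : Kˣ, (s ^ (3 * 3 ^ m)) ^ (3 * 3 ^ m) = s ^ 3 := fun s => by
    rw [← pow_mul, show 3 * 3 ^ m * (3 * 3 ^ m) = 3 ^ (2 * m + 1) * 3 by ring, pow_mul, hq']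
  -- commutation with the involution
  have hAX : ∀ u, (a : GL chevG2.Idx K) * W (3 ^ m) 0 u 0 = W (3 ^ m) 0 u 0 * (a : GL chevG2.Idx K) := fun u => by
    have h := hact A 0 u 0
    have hev : Even (3 * 3 ^ m + 1) := Odd.add_one (Odd.mul (by decide) hodd)
    rw [hψA, Units.val_neg, Units.val_one, hev.neg_one_pow, mul_zero, mul_zero, one_mul] at h
    exact mul_inv_eq_iff_eq_mul.1 h
  have hAY : ∀ u, (a : GL chevG2.Idx K) * φ (slY u) = φ (slY u) * a := fun u => by
    obtain ⟨z, hz⟩ := goodG2.mem_diagonal.1 haH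
    have h7 := (torus_action (uShape hK) (hz ▸ a.2)).1
    have h6 : goodG2.torusVal z 6 = -1 := by
      have h := hact A 1 0 0
      rw [show (A : GL chevG2.Idx K) = goodG2.torus z from hz, torus_conj_W] at h
      obtain ⟨-, hb, -, -, -, -⟩ := P_injective h
      exact Units.ext (by rw [mul_one, mul_one, hψA] at hb; exact hb)
    obtain ⟨h8, -, h10, -⟩ := torusVal_rel z
    rw [h6, hodd.neg_one_pow] at h7
    rw [h6, h7] at h8 h10
    have v3 : goodG2.torusVal z 3 = 1 := by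
      have := goodG2.torusVal_neg (r := 8) (by decide +kernel) z
      rw [show chevG2.neg 8 = 3 by decide +kernel, h8] at this
      rw [this]; simp
    have v1 : goodG2.torusVal z 1 = 1 := by
      have := goodG2.torusVal_neg (r := 10) (by decide +kernel) z
      rw [show chevG2.neg 10 = 1 by decide +kernel, h10] at this
      rw [this]; norm_num
    rw [pY, hz, ← mul_assoc, goodG2.torus_mul_xg z (by decide +kernel), v3, Units.val_one, one_mul, mul_assoc,
      goodG2.torus_mul_xg z (by decide +kernel), v1, Units.val_one, one_mul, mul_assoc]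
  have hAφ : ∀ g, (a : GL chevG2.Idx K) * φ g = φ g * a := fun g => by
    have hg : g ∈ (Subgroup.centralizer {(a : GL chevG2.Idx K)}).comap φ := by
      have hX : ∀ u, slX u ∈ (Subgroup.centralizer {(a : GL chevG2.Idx K)}).comap φ := fun u => by
        rw [Subgroup.mem_comap, Subgroup.mem_centralizer_singleton_iff, pX]; exact (hAX u).symm
      have hY : ∀ u, slY u ∈ (Subgroup.centralizer {(a : GL chevG2.Idx K)}).comap φ := fun u => by
        rw [Subgroup.mem_comap, Subgroup.mem_centralizer_singleton_iff]; exact (hAY u).symm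
      refine sl_generated _ hX ?_ g
      have e : (slW : SL(2, K)) = slX 1 * slY (-1) * slX 1 := by
        apply Subtype.ext
        ext i j
        fin_cases i <;> fin_cases j <;>
          simp [sl_mul_val, coe_slW, coe_slX, coe_slY, Matrix.mul_apply, Fin.sum_univ_two]
      rw [e]
      exact mul_mem (mul_mem (hX _) (hY _)) (hX _)
    exact (Subgroup.mem_centralizer_singleton_iff.1 (Subgroup.mem_comap.1 hg)).symm
  -- the homomorphism
  set C := Subgroup.centralizer ({a} : Set ↥(Gr K m)) with hC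
  let aC : ↥C := ⟨a, Subgroup.mem_centralizer_singleton_iff.2 rfl⟩
  have haC : aC * aC = 1 := Subtype.ext ha2
  let φC : SL(2, K) →* ↥C := (φ.codRestrict (Gr K m) hφG).codRestrict C fun g =>
    Subgroup.mem_centralizer_singleton_iff.2 (Subtype.ext (hAφ g).symm)
  have hcval : ∀ g, ((φC g : ↥(Gr K m)) : GL chevG2.Idx K) = φ g := fun g => rfl
  let ι : Multiplicative (ZMod 2) →* ↥C := MonoidHom.mk' (fun x => aC ^ (Multiplicative.toAdd x).val) fun x y => by
    rw [toAdd_mul, ZMod.val_add, ← pow_eq_pow_mod _ (by rw [sq]; exact haC), pow_add]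
  let Φ : Multiplicative (ZMod 2) × SL(2, K) →* ↥C := ι.noncommCoprod φC fun x g => by
    refine Commute.pow_left ?_ _
    exact Subtype.ext (Subtype.ext (hAφ g))
  have hι1 : ι (Multiplicative.ofAdd 1) = aC := by
    show aC ^ ((1 : ZMod 2)).val = aC
    rw [show ((1 : ZMod 2)).val = 1 from rfl, pow_one]
  have hW_not : φ slW ∉ Br K m := by
    intro hB
    have h1 : φ (slY (-1)) ∈ Ur K m := by
      rw [show slY (-1 : K) = slW * slX 1 * slW⁻¹ by rw [slY_eq, neg_neg], map_mul, map_mul, map_inv, pX]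
      exact conj_U hB (W_mem_U _ _ _ _)
    have h2 : φ (slY (-1)) ∈ chevG2.negUnipotent K := by
      rw [pY]
      exact mul_mem (goodG2.xg_mem_neg (by decide +kernel) _) (goodG2.xg_mem_neg (by decide +kernel) _)
    have h3 : φ (slY (-1)) = 1 := (Subgroup.eq_bot_iff_forall _).1 (goodG2.pos_inf_neg (F := K)) _
      (Subgroup.mem_inf.2 ⟨(Subgroup.mem_inf.1 h1).1, h2⟩)
    rw [show slY (-1 : K) = slW * slX 1 * slW⁻¹ by rw [slY_eq, neg_neg], map_mul, map_mul, map_inv, pX,
      conj_eq_one_iff] at h3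
    exact one_ne_zero (W_eq_one_iff.1 h3).2.1
  have hXB : ∀ u, φ (slX u) ∈ Br K m := fun u => by rw [pX]; exact Ur_le_Br (W_mem_U _ _ _ _)
  refine ⟨Φ, ?_, ?_⟩
  · -- surjectivity
    let R : Subgroup ↥(Gr K m) := Φ.range.map C.subtype
    have hRa : a ∈ R := ⟨aC, ⟨(Multiplicative.ofAdd 1, 1), show ι (Multiplicative.ofAdd 1) * φC 1 = aC by rw [hι1, map_one, mul_one]⟩, rfl⟩
    have hRφ : ∀ g, (⟨φ g, hφG g⟩ : ↥(Gr K m)) ∈ R := fun g => ⟨φC g, ⟨(1, g), show ι 1 * φC g = φC g by rw [map_one, one_mul]⟩, rfl⟩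
    have hU0 : ∀ w ∈ Ur K m, (a : GL chevG2.Idx K) * w = w * a → ∃ u, w = φ (slX u) := by
      intro w hw hc
      obtain ⟨t, u, v, rfl⟩ := uShape hK w hw
      have h := hact A t u v
      simp only [A] at h
      rw [hc, mul_inv_cancel_right] at h
      obtain ⟨et, -, ev⟩ := W_injective h
      rw [show ψ ⟨(a : GL chevG2.Idx K), _⟩ = ψ A from rfl, hψA, Units.val_neg, Units.val_one] at et ev
      have hod : Odd (3 * 3 ^ m + 2) := (Odd.mul (by decide) hodd).add_even (by decide)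
      rw [hod.neg_one_pow] at ev
      have ht : t = 0 := by linear_combination t * (three0 (F := K)) - et
      have hv : v = 0 := by linear_combination v * (three0 (F := K)) - ev
      exact ⟨u, by rw [pX, ht, hv]⟩
    have hB0 : ∀ g : ↥(Gr K m), (g : GL chevG2.Idx K) ∈ Br K m → a * g = g * a → g ∈ R := by
      intro g hg hc
      obtain ⟨w, hw, h, hh, e1⟩ := mem_Br hK hg
      have hch : (a : GL chevG2.Idx K) * h = h * a := goodG2.diagonal_comm haH (Subgroup.mem_inf.1 hh).1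
      have hcw : (a : GL chevG2.Idx K) * w = w * a := by
        have hc' := congrArg (fun x : ↥(Gr K m) => (x : GL chevG2.Idx K)) hc
        simp only [Subgroup.coe_mul, e1] at hc'
        rw [mul_assoc w h, ← hch, ← mul_assoc, ← mul_assoc] at hc'
        exact mul_right_cancel hc'
      obtain ⟨u, rfl⟩ := hU0 w hw hcw
      obtain ⟨k, hk, hk2⟩ := exists_half m
      set x := ψ ⟨h, hh⟩ with hx
      have hxk : (x ^ k) ^ 2 = 1 := by
        rw [← pow_mul, mul_comm, ← hk2, ← hK, ← Fintype.card_units]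
        exact pow_card_eq_one
      obtain ⟨k', rfl⟩ := hk
      have hsq : ∀ y : Kˣ, y ^ (2 * k' + 1) = 1 → ∃ s : Kˣ, s ^ (3 * 3 ^ m) * s⁻¹ = y := by
        intro y hy
        set r := y ^ (k' + 1) with hr
        have hr2 : r ^ 2 = y := by
          rw [hr, ← pow_mul, show (k' + 1) * 2 = (2 * k' + 1) + 1 by ring, pow_succ, hy, one_mul]
        refine ⟨r ^ (3 * 3 ^ m + 1), ?_⟩
        rw [← pow_mul, add_mul, one_mul, pow_add, pow_mul, h99, pow_succ r (3 * 3 ^ m)]
        rw [mul_inv_rev, ← hr2]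
        group
      have hh' : ∃ s : Kˣ, x = s ^ (3 * 3 ^ m) * s⁻¹ ∨ x = -1 * (s ^ (3 * 3 ^ m) * s⁻¹) := by
        rcases unit_eq_one_or_neg_one hxk with h1 | h1
        · obtain ⟨s, hs⟩ := hsq x h1
          exact ⟨s, Or.inl hs.symm⟩
        · obtain ⟨s, hs⟩ := hsq (-x) (by rw [neg_pow, h1, (odd_two_mul_add_one k').neg_one_pow, neg_mul_neg, one_mul])
          exact ⟨s, Or.inr (by rw [hs, neg_one_mul, neg_neg])⟩
      obtain ⟨s, hs⟩ := hh'
      have hgR : ∃ j : ↥(Gr K m), j ∈ R ∧ (j : GL chevG2.Idx K) = h := by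
        rcases hs with hs | hs
        · refine ⟨_, hRφ (slD s), ?_⟩
          exact (congrArg (fun x : ↥(Hr K m) => (x : GL chevG2.Idx K))
            (hψ (show ψ ⟨h, hh⟩ = ψ ⟨φ (slD s), hdD s⟩ by rw [hf, ← hs]))).symm
        · refine ⟨_, mul_mem hRa (hRφ (slD s)), ?_⟩
          exact (congrArg (fun x : ↥(Hr K m) => (x : GL chevG2.Idx K))
            (hψ (show ψ ⟨h, hh⟩ = ψ (A * ⟨φ (slD s), hdD s⟩) by rw [map_mul, hf, hψA, ← hs]))).symm
      obtain ⟨j, hj, rfl⟩ := hgR
      have : g = ⟨φ (slX u), hφG _⟩ * j := Subtype.ext e1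
      exact this ▸ mul_mem (hRφ _) hj
    have hsplit : ∀ g : ↥(Gr K m), (g : GL chevG2.Idx K) ∉ Br K m → a * g = g * a →
        ∃ b ∈ Br K m, ∃ u, (g : GL chevG2.Idx K) = b * nW * φ (slX u) := by
      intro g hg hc
      rcases decomp hK g.2 with h | ⟨b, hb, w, hw, e1⟩
      · exact absurd h hg
      obtain ⟨u, rfl⟩ : ∃ u, w = φ (slX u) := by
        refine hU0 w hw ?_
        have hA' : (a : GL chevG2.Idx K) ∈ Br K m := Hr_le_Br A.2
        have hw' := conj_U hA' hw
        have hj : nW⁻¹ * (a : GL chevG2.Idx K) * nW * (a : GL chevG2.Idx K)⁻¹ ∈ Hr K m :=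
          mul_mem (conj_nW_inv_Hr hK A.2) (inv_mem A.2)
        have hc' := congrArg (fun x : ↥(Gr K m) => (x : GL chevG2.Idx K)) hc
        simp only [Subgroup.coe_mul, e1] at hc'
        have hb' : (a : GL chevG2.Idx K) * b * (a : GL chevG2.Idx K)⁻¹ *
            (nW * (nW⁻¹ * (a : GL chevG2.Idx K) * nW * (a : GL chevG2.Idx K)⁻¹) * nW⁻¹) ∈ Br K m :=
          mul_mem (mul_mem (mul_mem hA' hb) (inv_mem hA')) (Hr_le_Br (conj_nW_Hr hK hj))
        have h1 : nW * ((a : GL chevG2.Idx K) * w * (a : GL chevG2.Idx K)⁻¹ * w⁻¹) * nW⁻¹ ∈ Br K m := by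
          have := mul_mem (inv_mem hb') hb
          convert this using 1
          have e2 : (a : GL chevG2.Idx K) * (b * nW * w) * (a : GL chevG2.Idx K)⁻¹ * w⁻¹ * nW⁻¹ = b := by
            rw [hc']; group
          conv_rhs => arg 2; rw [← e2]
          group
        have h2 := conj_nW_borel hK (mul_mem hw' (inv_mem hw)) (Subgroup.mem_inf.1 h1).1
        rw [mul_inv_eq_one, mul_inv_eq_iff_eq_mul] at h2
        exact h2
      exact ⟨b, hb, u, e1⟩
    intro g
    obtain ⟨g, hg⟩ := g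
    have hc : a * g = g * a := (Subgroup.mem_centralizer_singleton_iff.1 hg).symm
    suffices hgR : g ∈ R by
      obtain ⟨y, ⟨x, rfl⟩, hy⟩ := hgR
      exact ⟨x, Subtype.ext hy⟩
    by_cases hgB : (g : GL chevG2.Idx K) ∈ Br K m
    · exact hB0 g hgB hc
    obtain ⟨b, hb, u, e1⟩ := hsplit g hgB hc
    obtain ⟨b0, hb0, u0, e0⟩ := hsplit ⟨φ slW, hφG _⟩ hW_not (Subtype.ext (hAφ slW))
    let f1 : ↥(Gr K m) := g * (⟨φ (slX u), hφG _⟩)⁻¹
    let f0 : ↥(Gr K m) := ⟨φ slW, hφG _⟩ * (⟨φ (slX u0), hφG _⟩)⁻¹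
    have hf0 : f0 ∈ R := mul_mem (hRφ _) (inv_mem (hRφ _))
    have hf1 : f1 * f0⁻¹ ∈ R := by
      refine hB0 _ ?_ ?_
      · have h := mul_mem hb (inv_mem hb0)
        convert h using 1
        simp only [f1, f0, Subgroup.coe_mul, Subgroup.coe_inv]
        simp only at e0
        rw [e1, e0]
        group
      · have hcφ : ∀ y, Commute a (⟨φ y, hφG y⟩ : ↥(Gr K m)) := fun y => Subtype.ext (hAφ y)
        exact ((Commute.mul_right (show Commute a g from hc) (hcφ _).inv_right).mul_right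
          ((hcφ _).mul_right (hcφ _).inv_right).inv_right).eq
    have : g = f1 * f0⁻¹ * f0 * ⟨φ (slX u), hφG _⟩ := by simp only [f1, inv_mul_cancel_right]
    rw [this]
    exact mul_mem (mul_mem hf1 hf0) (hRφ _)
  · -- the kernel
    have hfix : ∀ s : Kˣ, s ^ (3 * 3 ^ m) * s⁻¹ = 1 → s ^ 2 = 1 := by
      intro s h
      rw [mul_inv_eq_one] at h
      have := h99 s
      rw [h, h, pow_succ, right_eq_mul] at this
      exact this
    have hneg : φ (slD (-1)) = 1 := by
      have : (⟨φ (slD (-1)), hdD _⟩ : ↥(Hr K m)) = 1 := by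
        refine hψ ?_
        rw [hf, map_one, (Odd.mul (by decide) hodd).neg_one_pow, mul_inv_cancel]
      exact congrArg Subtype.val this
    have hval : ∀ x, ((Φ x : ↥(Gr K m)) : GL chevG2.Idx K) =
        (a : GL chevG2.Idx K) ^ (Multiplicative.toAdd x.1).val * φ x.2 := fun x => by
      simp [Φ, ι, aC, hcval, MonoidHom.noncommCoprod_apply]
    rintro ⟨i, g⟩
    constructor
    · intro h
      have h1 := congrArg (fun y : ↥C => ((y : ↥(Gr K m)) : GL chevG2.Idx K)) h
      simp only [hval, OneMemClass.coe_one] at h1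
      have hgB : φ g ∈ Br K m := by
        rw [eq_inv_of_mul_eq_one_right h1]
        exact inv_mem (pow_mem (Hr_le_Br A.2) _)
      by_cases hc : g.1 1 0 = 0
      swap
      · obtain ⟨s, x, y, rfl⟩ := lower_decomp hc
        refine absurd ?_ hW_not
        rw [map_mul, map_mul, map_mul] at hgB
        have := mul_mem (mul_mem (mul_mem (inv_mem (hXB x)) hgB) (inv_mem (hXB y))) (inv_mem (Hr_le_Br (hdD s)))
        convert this using 1
        group
      obtain ⟨s, b, -, rfl⟩ := upper_decomp hc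
      rw [map_mul, ← mul_assoc] at h1
      have hH : (a : GL chevG2.Idx K) ^ (Multiplicative.toAdd i).val * φ (slD s) ∈ Hr K m :=
        mul_mem (pow_mem A.2 _) (hdD s)
      have hX1 : φ (slX b) = 1 := by
        refine Ur_inf_Hr (by rw [pX]; exact W_mem_U _ _ _ _) ?_
        rw [eq_inv_of_mul_eq_one_right h1]
        exact inv_mem hH
      rw [pX] at hX1
      obtain rfl : b = 0 := (W_eq_one_iff.1 hX1).2.1
      rw [show slX (0 : K) = 1 from Subtype.ext (by simp [coe_slX, Matrix.one_fin_two]), map_one, mul_one] at h1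
      have h2 : ψ (A ^ (Multiplicative.toAdd i).val * ⟨φ (slD s), hdD s⟩) = 1 := by
        rw [show A ^ (Multiplicative.toAdd i).val * ⟨φ (slD s), hdD s⟩ = 1 from
          Subtype.ext (by simpa [A] using h1), map_one]
      rw [map_mul, map_pow, hψA, hf] at h2
      have hi : i = 1 ∧ s ^ (3 * 3 ^ m) * s⁻¹ = 1 := by
        rcases (by decide : ∀ c : ZMod 2, c = 0 ∨ c = 1) (Multiplicative.toAdd i) with hc0 | hc0
        · rw [hc0, ZMod.val_zero, pow_zero, one_mul] at h2
          exact ⟨hc0, h2⟩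
        · exfalso
          rw [hc0, show ((1 : ZMod 2)).val = 1 from rfl, pow_one, neg_one_mul, neg_eq_iff_eq_neg,
            mul_inv_eq_iff_eq_mul] at h2
          have h3 := h99 s
          rw [h2, neg_one_mul, (Odd.mul (by decide) hodd).neg_pow, h2, neg_one_mul, neg_neg, pow_succ,
            right_eq_mul] at h3
          rcases unit_eq_one_or_neg_one h3 with rfl | rfl
          · rw [one_pow, mul_one] at h2
            exact neg_one_ne_one h2.symm
          · rw [(Odd.mul (by decide) hodd).neg_one_pow, neg_mul_neg, one_mul] at h2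
            exact neg_one_ne_one h2
      refine ⟨hi.1, ?_⟩
      rw [show slX (0 : K) = 1 from Subtype.ext (by simp [coe_slX, Matrix.one_fin_two]), mul_one,
        Matrix.SpecialLinearGroup.mem_center_iff]
      refine ⟨(s : K), ?_, ?_⟩
      · rw [Fintype.card_fin, ← Units.val_pow_eq_pow_val, hfix s hi.2, Units.val_one]
      · ext i j
        fin_cases i <;> fin_cases j <;> simp [coe_slD]
        rcases unit_eq_one_or_neg_one (hfix s hi.2) with rfl | rfl <;> simp
    · rintro ⟨rfl, hg⟩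
      obtain ⟨r, hr, hg'⟩ := Matrix.SpecialLinearGroup.mem_center_iff.1 hg
      rw [Fintype.card_fin] at hr
      apply Subtype.ext
      apply Subtype.ext
      rw [hval, toAdd_one, ZMod.val_zero, pow_zero, one_mul]
      rcases sq_eq_one_iff.1 hr with rfl | rfl
      · rw [show g = 1 from Subtype.ext (by rw [← hg']; simp), map_one]
        rfl
      · rw [show g = slD (-1) from Subtype.ext (by
          rw [← hg']; ext i j; fin_cases i <;> fin_cases j <;> simp [coe_slD]), hneg]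
        rfl

end Cfsg.Agent.H48.Ree
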