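import Cfsg.Agent.H48.Ree.Coords

/-!
The diagonal subgroup of the small Ree group acting on its unipotent subgroup, given that the
unipotent subgroup consists of the elements `W e t u v`.
-/

set_option autoImplicit false

open Cfsg.Lie Cfsg.Agent.H46 Cfsg.Agent.H65

namespace Cfsg.Agent.H48.Ree

variable {F : Type*} [Field F]

/-- The unipotent subgroup of the small Ree group consists of the elements `W`. -/
def UShape (F : Type*) [Field F] (m : ℕ) : Prop :=
  ∀ g ∈ chevG2.posUnipotent F ⊓ twistedG2 F (3 ^ m), ∃ t u v : F, g = W (3 ^ m) t u v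

theorem W_mem_U (e : ℕ) (t u v : F) : W e t u v ∈ chevG2.posUnipotent F ⊓ twistedG2 F e :=
  Subgroup.mem_inf.2 ⟨W_mem_pos e t u v, W_mem_twisted e t u v⟩

theorem torusVal_rel (z : Fin chevG2.rank → Fˣ) :
    goodG2.torusVal z 8 = goodG2.torusVal z 7 * goodG2.torusVal z 6 ∧
    goodG2.torusVal z 9 = goodG2.torusVal z 7 ^ 2 * goodG2.torusVal z 6 ∧
    goodG2.torusVal z 10 = goodG2.torusVal z 7 ^ 3 * goodG2.torusVal z 6 ∧
    goodG2.torusVal z 11 = goodG2.torusVal z 7 ^ 3 * goodG2.torusVal z 6 ^ 2 := by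
  refine ⟨?_, ?_, ?_, ?_⟩
  · simpa using goodG2.torusVal_add (r := 7) (s := 6) (u := 8) z 1 1 (by decide +kernel)
  · simpa using goodG2.torusVal_add (r := 7) (s := 6) (u := 9) z 2 1 (by decide +kernel)
  · simpa using goodG2.torusVal_add (r := 7) (s := 6) (u := 10) z 3 1 (by decide +kernel)
  · simpa using goodG2.torusVal_add (r := 7) (s := 6) (u := 11) z 3 2 (by decide +kernel)

theorem torus_eq_one_of {z : Fin chevG2.rank → Fˣ} (h6 : goodG2.torusVal z 6 = 1)
    (h7 : goodG2.torusVal z 7 = 1) : goodG2.torus z = 1 := by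
  obtain ⟨h8, h9, h10, h11⟩ := torusVal_rel z
  rw [h6, h7] at h8 h9 h10 h11
  simp only [one_mul, mul_one, one_pow] at h8 h9 h10 h11
  have hpos : ∀ r, 6 ≤ r → r < 12 → goodG2.torusVal z r = 1 := by
    intro r h1 h2
    obtain rfl | rfl | rfl | rfl | rfl | rfl : r = 6 ∨ r = 7 ∨ r = 8 ∨ r = 9 ∨ r = 10 ∨ r = 11 := by omega
    exacts [h6, h7, h8, h9, h10, h11]
  rw [goodG2.torus_eq_one_iff]
  intro s hs
  rcases Nat.lt_or_ge s 6 with hlt | hge
  · have hn : 6 ≤ chevG2.neg s ∧ chevG2.neg s < 12 := by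
      clear hs
      interval_cases s <;> decide +kernel
    have := goodG2.torusVal_neg hs z
    rw [hpos _ hn.1 hn.2] at this
    exact inv_eq_one.1 this.symm
  · exact hpos s hge hs

theorem torusVal_congr {z w : Fin chevG2.rank → Fˣ} (h : goodG2.torus z = goodG2.torus w) {r : ℕ}
    (hr : r < chevG2.nroots) : goodG2.torusVal z r = goodG2.torusVal w r := by
  have h1 := (goodG2.torus_eq_one_iff (z * w⁻¹)).1 (by rw [map_mul, map_inv, h, mul_inv_cancel]) r hr
  have h2 : goodG2.torusVal z r = goodG2.torusVal (z * w⁻¹) r * goodG2.torusVal w r := by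
    rw [← goodG2.torusVal_mul, inv_mul_cancel_right]
  rw [h2, h1, one_mul]

variable [CharP F 3] {m : ℕ}

/-- The parameters of an element of the twisted diagonal subgroup and its action on `W`. -/
theorem torus_action (hU : UShape F m) {z : Fin chevG2.rank → Fˣ}
    (hz : goodG2.torus z ∈ twistedG2 F (3 ^ m)) :
    goodG2.torusVal z 7 = goodG2.torusVal z 6 ^ 3 ^ m ∧
      ∀ t u v : F, goodG2.torus z * W (3 ^ m) t u v * (goodG2.torus z)⁻¹ =
        W (3 ^ m) ((goodG2.torusVal z 6 : F) * t) ((goodG2.torusVal z 6 : F) ^ (3 * 3 ^ m + 1) * u)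
          ((goodG2.torusVal z 6 : F) ^ (3 * 3 ^ m + 2) * v) := by
  have hmem : ∀ t u v : F, ∃ t' u' v' : F,
      goodG2.torus z * W (3 ^ m) t u v * (goodG2.torus z)⁻¹ = W (3 ^ m) t' u' v' := by
    intro t u v
    refine hU _ (Subgroup.mem_inf.2 ⟨?_, mul_mem (mul_mem hz (W_mem_twisted _ t u v)) (inv_mem hz)⟩)
    rw [torus_conj_W]
    unfold P
    exact mul_mem (mul_mem (mul_mem (mul_mem (mul_mem (goodG2.xg_mem_pos (g2_pos (by omega) (by omega)) _)
      (goodG2.xg_mem_pos (g2_pos (by omega) (by omega)) _)) (goodG2.xg_mem_pos (g2_pos (by omega) (by omega)) _))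
      (goodG2.xg_mem_pos (g2_pos (by omega) (by omega)) _)) (goodG2.xg_mem_pos (g2_pos (by omega) (by omega)) _))
      (goodG2.xg_mem_pos (g2_pos (by omega) (by omega)) _)
  have h7 : goodG2.torusVal z 7 = goodG2.torusVal z 6 ^ 3 ^ m := by
    obtain ⟨t', u', v', e⟩ := hmem 1 0 0
    rw [torus_conj_W] at e
    obtain ⟨ha, hb, -, -, -, -⟩ := P_injective e
    simp only [one_pow, mul_one] at ha hb
    exact Units.ext (by rw [ha, ← hb, Units.val_pow_eq_pow_val])
  refine ⟨h7, fun t u v => ?_⟩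
  obtain ⟨t', u', v', e⟩ := hmem t u v
  rw [e]
  rw [torus_conj_W] at e
  obtain ⟨-, hb, -, -, hg, hh⟩ := P_injective e
  obtain ⟨-, -, h10, h11⟩ := torusVal_rel z
  rw [← hb, ← hg, ← hh, h10, h11, h7]
  congr 1 <;> push_cast <;> ring

/-- The parameter of a twisted diagonal element on the fundamental long root. -/
theorem exists_param (hU : UShape F m) :
    ∃ ψ : ↥(chevG2.diagonalSubgroup F ⊓ twistedG2 F (3 ^ m)) →* Fˣ, Function.Injective ψ ∧
      ∀ (h : ↥(chevG2.diagonalSubgroup F ⊓ twistedG2 F (3 ^ m))) (t u v : F), (h : GL chevG2.Idx F) * W (3 ^ m) t u v * (h : GL chevG2.Idx F)⁻¹ =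
        W (3 ^ m) ((ψ h : F) * t) ((ψ h : F) ^ (3 * 3 ^ m + 1) * u) ((ψ h : F) ^ (3 * 3 ^ m + 2) * v) := by
  have hsel : ∀ h : ↥(chevG2.diagonalSubgroup F ⊓ twistedG2 F (3 ^ m)),
      ∃ z, (h : GL chevG2.Idx F) = goodG2.torus z := fun h => goodG2.mem_diagonal.1 (Subgroup.mem_inf.1 h.2).1
  choose z hz using hsel
  have hzG : ∀ h, goodG2.torus (z h) ∈ twistedG2 F (3 ^ m) := fun h => hz h ▸ (Subgroup.mem_inf.1 h.2).2
  refine ⟨MonoidHom.mk' (fun h => goodG2.torusVal (z h) 6) (fun h k => ?_), ?_, ?_⟩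
  · rw [← goodG2.torusVal_mul]
    exact torusVal_congr (by rw [map_mul, ← hz, ← hz, ← hz, Subgroup.coe_mul]) (by decide)
  · rw [injective_iff_map_eq_one]
    intro h h1
    have h7 := (torus_action hU (hzG h)).1
    rw [MonoidHom.mk'_apply] at h1
    rw [h1, one_pow] at h7
    exact Subtype.ext ((hz h).trans (torus_eq_one_of h1 h7))
  · intro h t u v
    rw [hz h]
    exact (torus_action hU (hzG h)).2 t u v

/-- The twisted diagonal subgroup is cyclic. -/
theorem isCyclic_diagonal [Finite F] (hU : UShape F m) :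
    IsCyclic ↥(chevG2.diagonalSubgroup F ⊓ twistedG2 F (3 ^ m)) := by
  obtain ⟨ψ, hψ, -⟩ := exists_param hU
  exact isCyclic_of_injective_ringHom ((Units.coeHom F).comp ψ) (Units.val_injective.comp hψ)

omit [CharP F 3] in
theorem odd_orderOf_eq_one {x : Fˣ} (ho : Odd (orderOf x)) (h2 : x ^ 2 = 1) : x = 1 := by
  have hd := orderOf_dvd_of_pow_eq_one h2
  rcases (Nat.dvd_prime Nat.prime_two).1 hd with h | h
  · exact orderOf_eq_one_iff.1 h
  · rw [h] at ho
    exact absurd ho (by decide)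

omit [CharP F 3] in
/-- A parameter of odd order acts without fixed points on all three coordinates. -/
theorem param_fixed_free (hq : ∀ x : F, x ^ 3 ^ (2 * m + 1) = x) {x : Fˣ} (ho : Odd (orderOf x)) :
    (x ^ (3 * 3 ^ m + 1) = 1 → x = 1) ∧ (x ^ (3 * 3 ^ m + 2) = 1 → x = 1) := by
  have hq' : x ^ 3 ^ (2 * m + 1) = x := Units.ext (by rw [Units.val_pow_eq_pow_val]; exact hq x)
  have h9 : (x ^ (3 * 3 ^ m)) ^ (3 * 3 ^ m) = x ^ 3 := by
    rw [← pow_mul, show 3 * 3 ^ m * (3 * 3 ^ m) = 3 ^ (2 * m + 1) * 3 by ring, pow_mul, hq']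
  constructor
  · intro h
    have h1 : x ^ (3 * 3 ^ m) = x⁻¹ := eq_inv_of_mul_eq_one_left (by rw [← pow_succ, h])
    rw [h1, inv_pow, h1, inv_inv] at h9
    refine odd_orderOf_eq_one ho ?_
    rw [pow_succ, right_eq_mul] at h9
    exact h9
  · intro h
    have h1 : x ^ (3 * 3 ^ m) = (x ^ 2)⁻¹ := eq_inv_of_mul_eq_one_left (by rw [← pow_add, h])
    rw [h1, inv_pow, ← pow_mul, mul_comm, pow_mul, h1, inv_pow, inv_inv, ← pow_mul] at h9
    rw [show 2 * 2 = 3 + 1 from rfl, pow_succ, mul_eq_left] at h9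
    exact h9

theorem exists_half (m : ℕ) : ∃ k, Odd k ∧ 3 ^ (2 * m + 1) - 1 = 2 * k := by
  have h : 3 ^ (2 * m + 1) % 4 = 3 := by
    rw [pow_succ, pow_mul, Nat.mul_mod, Nat.pow_mod]
    simp
  generalize 3 ^ (2 * m + 1) = n at h ⊢
  exact ⟨(n - 1) / 2, Nat.odd_iff.2 (by omega), by omega⟩

/-- Half of the elements of a cyclic group of order twice an odd number have odd order. -/
theorem card_odd_orderOf {G : Type*} [Group G] [IsCyclic G] {k : ℕ} (hk : Odd k) (hc : Nat.card G = 2 * k) :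
    Nat.card {g : G // Odd (orderOf g)} = k := by
  haveI : Finite G := Nat.finite_of_card_ne_zero (by have := hk.pos; omega)
  letI : CommGroup G := IsCyclic.commGroup
  have h : ∀ g : G, Odd (orderOf g) ↔ g ^ k = 1 := by
    intro g
    refine ⟨fun ho => ?_, fun hg => Odd.of_dvd_nat hk (orderOf_dvd_of_pow_eq_one hg)⟩
    apply orderOf_dvd_iff_pow_eq_one.1
    exact (Nat.Coprime.dvd_of_dvd_mul_left (Nat.coprime_two_right.2 ho) (hc ▸ orderOf_dvd_natCard g))
  rw [Nat.card_congr (Equiv.subtypeEquivRight h)]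
  have := IsCyclic.card_powMonoidHom_ker (G := G) k
  rw [hc, Nat.gcd_mul_left_left] at this
  refine Eq.trans ?_ this
  rfl

/-- The odd order part of the diagonal group acts without fixed points. -/
theorem diagonal_fixed_free (hq : ∀ x : F, x ^ 3 ^ (2 * m + 1) = x) (hU : UShape F m) :
    ∀ h ∈ chevG2.diagonalSubgroup F ⊓ twistedG2 F (3 ^ m), h ≠ 1 → Odd (orderOf h) →
      (chevG2.posUnipotent F ⊓ twistedG2 F (3 ^ m)) ⊓ Subgroup.centralizer {h} = ⊥ := by
  obtain ⟨ψ, hψ, hact⟩ := exists_param hU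
  intro h hh h1 ho
  rw [Subgroup.eq_bot_iff_forall]
  intro g hg
  obtain ⟨hgU, hgC⟩ := Subgroup.mem_inf.1 hg
  obtain ⟨t, u, v, rfl⟩ := hU g hgU
  set x := ψ ⟨h, hh⟩ with hx
  have hx1 : x ≠ 1 := fun e => h1 (congrArg Subtype.val (hψ (e.trans (map_one ψ).symm)))
  have hxo : Odd (orderOf x) := by
    rw [hx, orderOf_injective ψ hψ, ← Subgroup.orderOf_coe]
    exact ho
  obtain ⟨f1, f2⟩ := param_fixed_free hq hxo
  have e := hact ⟨h, hh⟩ t u v
  rw [Subgroup.mem_centralizer_singleton_iff] at hgC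
  simp only [← hgC, mul_inv_cancel_right] at e
  obtain ⟨et, eu, ev⟩ := W_injective e
  have z1 : ∀ (y : Fˣ) (c : F), c = (y : F) * c → y ≠ 1 → c = 0 := by
    intro y c hc hy
    by_contra hne
    exact hy (Units.ext (mul_right_cancel₀ hne (hc.symm.trans (one_mul c).symm)))
  refine W_eq_one_iff.2 ⟨z1 x t et hx1, z1 (x ^ (3 * 3 ^ m + 1)) u (by simpa using eu) (fun e => hx1 (f1 e)),
    z1 (x ^ (3 * 3 ^ m + 2)) v (by simpa using ev) (fun e => hx1 (f2 e))⟩

/-- The elements of order three of the unipotent subgroup. -/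
theorem card_order_three [Finite F] (hq : ∀ x : F, x ^ 3 ^ (2 * m + 1) = x) (hU : UShape F m) :
    Nat.card {g : ↥(chevG2.posUnipotent F ⊓ twistedG2 F (3 ^ m)) // orderOf g = 3} = Nat.card F ^ 2 - 1 := by
  classical
  haveI : Fact (Nat.Prime 3) := ⟨Nat.prime_three⟩
  have hc : Nat.card {p : F × F // p ≠ 0} = Nat.card F ^ 2 - 1 := by
    haveI := Fintype.ofFinite F
    rw [Nat.card_eq_fintype_card, Fintype.card_subtype_compl, Fintype.card_subtype_eq, Fintype.card_prod,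
      Nat.card_eq_fintype_card, sq]
  rw [← hc]
  symm
  let f : {p : F × F // p ≠ 0} → {g : ↥(chevG2.posUnipotent F ⊓ twistedG2 F (3 ^ m)) // orderOf g = 3} :=
    fun p => ⟨⟨W (3 ^ m) 0 p.1.1 p.1.2, W_mem_U _ _ _ _⟩, by
      rw [← Subgroup.orderOf_coe]
      refine orderOf_eq_prime ?_ fun e => p.2 ?_
      · rw [W_cube hq, zero_pow (by omega), neg_zero, W_zero]
      · obtain ⟨-, e1, e2⟩ := W_eq_one_iff.1 e
        exact Prod.ext e1 e2⟩
  refine Nat.card_eq_of_bijective f ⟨fun p p' e => ?_, fun g => ?_⟩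
  · obtain ⟨-, e1, e2⟩ := W_injective (congrArg (fun g => ((g.1 : GL chevG2.Idx F))) e)
    exact Subtype.ext (Prod.ext e1 e2)
  · obtain ⟨⟨g, hg⟩, ho⟩ := g
    obtain ⟨t, u, v, rfl⟩ := hU g hg
    rw [← Subgroup.orderOf_coe] at ho
    have h3 := pow_orderOf_eq_one (W (3 ^ m) t u v)
    rw [ho, W_cube hq, W_eq_one_iff] at h3
    obtain rfl : t = 0 := by simpa using h3.2.2
    refine ⟨⟨(u, v), fun e => ?_⟩, rfl⟩
    obtain ⟨e1, e2⟩ : u = 0 ∧ v = 0 := Prod.ext_iff.1 e
    simp only [e1, e2, W_zero, orderOf_one] at ho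
    exact absurd ho (by norm_num)

end Cfsg.Agent.H48.Ree

namespace Cfsg.Agent.H48.Ree

/-- The field data from the cardinality hypothesis. -/
theorem field_data {K : Type*} [Field K] [Fintype K] {m : ℕ} (hK : Fintype.card K = 3 ^ (2 * m + 1)) :
    CharP K 3 ∧ ∀ x : K, x ^ 3 ^ (2 * m + 1) = x := by
  have : Fact (Nat.Prime 3) := ⟨Nat.prime_three⟩
  exact ⟨charP_of_card_eq_prime_pow hK, fun x => hK ▸ FiniteField.pow_card x⟩

end Cfsg.Agent.H48.Ree
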