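import Cfsg.Agent.H48.Ree.Local
import Cfsg.Agent.H65.Twist.Ree

/-!
The unipotent subgroup of the small Ree group consists of the elements `W`.
-/

set_option autoImplicit false

open Cfsg.Lie Cfsg.Agent.H46 Cfsg.Agent.H65.Twist

namespace Cfsg.Agent.H48.Ree

theorem uShape {K : Type*} [Field K] [Fintype K] {m : ℕ} (hK : Fintype.card K = 3 ^ (2 * m + 1)) :
    UShape K m := by
  haveI := (field_data hK).1
  intro g hg
  obtain ⟨hU, hW⟩ := Subgroup.mem_inf.1 hg
  have hG : g ∈ chevG2.group K := twistedG2_le hW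
  obtain ⟨t, u, v, e⟩ := fixed_pos hK (x := ⟨g, hG⟩) hU ((reeSetup K hK).W_fixed ⟨g, hG⟩ hW)
  refine ⟨t, u, v, eq_W ?_⟩
  rw [← coe_reeU t u v, ← e]

end Cfsg.Agent.H48.Ree
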