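import Cfsg.Agent.H48.Ree.InvCent
import Cfsg.Agent.H47.SpecialTables
import Cfsg.Agent.H66.SylowLarge
import Cfsg.Agent.H1.SLTwoElements
import Cfsg.Agent.H6.Basic

/-!
The Sylow subgroups of the small Ree group for primes above three are cyclic.
-/

set_option autoImplicit false

open Cfsg.Lie Cfsg.Agent.H46
open scoped Matrix MatrixGroups

namespace Cfsg.Agent.H48.Ree

/-- Sylow subgroups are cyclic as soon as one `p`-subgroup of full order is. -/
theorem isCyclic_sylow_of_witness {G : Type*} [Group G] [Finite G] {p : ℕ} [Fact p.Prime] (R : Subgroup G)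
    (hR : IsPGroup p R) (hidx : ¬ p ∣ R.index) (hc : IsCyclic R) (P : Sylow p G) :
    IsCyclic (P : Subgroup G) := by
  have h1 : IsCyclic ↥(hR.toSylow hidx : Subgroup G) := by
    rw [IsPGroup.toSylow_coe]
    exact hc
  exact (MulEquiv.isCyclic (P.equiv (hR.toSylow hidx))).2 h1

/-- The multiplicative order of a root of `x² − x + 1` modulo a prime above three. -/
theorem orderOf_six {p q : ℕ} [Fact p.Prime] (hp : 3 < p) (hq : 1 ≤ q) (h : p ∣ q * (q - 1) + 1) :
    orderOf (q : ZMod p) = 6 := by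
  have h0 : (q : ZMod p) * ((q : ZMod p) - 1) + 1 = 0 := by
    have := (ZMod.natCast_eq_zero_iff _ p).2 h
    push_cast [Nat.cast_sub hq] at this
    exact this
  set x := (q : ZMod p)
  have hk : ∀ k : ℕ, 0 < k → k < p → (k : ZMod p) ≠ 0 := fun k h0 h1 e =>
    absurd (Nat.le_of_dvd h0 ((ZMod.natCast_eq_zero_iff k p).1 e)) (by omega)
  have h3 : x ^ 3 = -1 := by linear_combination (x + 1) * h0
  have h6 : x ^ 6 = 1 := by linear_combination (x ^ 3 - 1) * h3
  have hd : orderOf x ∣ 6 := orderOf_dvd_of_pow_eq_one h6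
  have n3 : ¬ orderOf x ∣ 3 := fun h => by
    have e := orderOf_dvd_iff_pow_eq_one.1 h
    exact hk 2 (by omega) (by omega) (by push_cast; linear_combination h3 - e)
  have n2 : ¬ orderOf x ∣ 2 := fun h => by
    have e := orderOf_dvd_iff_pow_eq_one.1 h
    exact hk 3 (by omega) hp (by push_cast; linear_combination (x + 2) * h0 - (x + 1) * e)
  have hle := Nat.le_of_dvd (by omega) hd
  revert hd n2 n3
  generalize orderOf x = d at hle ⊢
  intro hd n3 n2
  interval_cases d <;> omega

variable {K : Type*} [Field K] [Fintype K]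

/-- The `p`-subgroups of `GL₇(q)` are cyclic when `q` has order six modulo `p`. -/
theorem isCyclic_GL_seven {p : ℕ} [Fact p.Prime] (hd : orderOf (Fintype.card K : ZMod p) = 6)
    (R : Subgroup (GL (Fin 7) K)) (hR : IsPGroup p R) : IsCyclic R := by
  set q := Fintype.card K with hq
  have hq1 : 1 < q := Fintype.one_lt_card
  have hpp : p.Prime := Fact.out
  have hrq : ¬ p ∣ q := fun h => by
    rw [(ZMod.natCast_eq_zero_iff q p).2 h, orderOf_zero] at hd
    omega
  have hval : padicValNat p (Nat.card (GL (Fin 7) K)) = 1 * padicValNat p (q ^ 6 - 1) := by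
    rw [H1.card_GL_eq_pow_mul hq.symm 7]
    have hrev : ∏ i : Fin 7, (q ^ (7 - (i : ℕ)) - 1) = ∏ i ∈ Finset.range 7, (q ^ (1 * (i + 1)) - 1) := by
      rw [← Fin.prod_univ_eq_prod_range (fun i => q ^ (1 * (i + 1)) - 1)]
      refine Fintype.prod_equiv Fin.revPerm _ _ fun i => ?_
      simp only [Fin.revPerm_apply, Fin.val_rev, one_mul]
      congr 2
      omega
    have hne : ∏ i ∈ Finset.range 7, (q ^ (1 * (i + 1)) - 1) ≠ 0 :=
      Finset.prod_ne_zero_iff.2 fun i _ => by
        have := Nat.one_lt_pow (show 1 * (i + 1) ≠ 0 by omega) hq1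
        omega
    rw [hrev, padicValNat.mul (pow_ne_zero _ (by omega)) hne,
      padicValNat.eq_zero_of_not_dvd (n := q ^ (7 * (7 - 1) / 2)) (fun h => hrq (hpp.dvd_of_dvd_pow h)), zero_add,
      H66.val_prod_pow_sub_one hq1 hrq 7 1 one_pos]
    · rw [hd]
      rfl
    · intro i hi
      rw [hd]
      by_cases h : 6 ∣ 1 * (i + 1)
      · refine Or.inl ?_
        rw [show 1 * (i + 1) / 6 = 1 by omega]
        exact hpp.not_dvd_one
      · exact Or.inr h
  have hex := H66.exists_GL_hom (F := K) (r := p) hrq 7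
  rw [← hq, hd] at hex
  obtain ⟨φ, hφ⟩ := hex
  obtain ⟨Q, hQ⟩ := hR.exists_le_sylow
  haveI : IsCyclic ↥(Q : Subgroup (GL (Fin 7) K)) := by
    obtain ⟨e⟩ := H66.sylow_homocyclic (a := 1) (v := padicValNat p (q ^ 6 - 1)) hval φ hφ Q
    refine (MulEquiv.isCyclic e).2 ((MulEquiv.isCyclic (MulEquiv.piUnique _)).2 inferInstance)
  exact isCyclic_of_injective (Subgroup.inclusion hQ) (Subgroup.inclusion_injective hQ)

variable {m : ℕ}

/-- A diagonal involution. -/
theorem exists_involution (hK : Fintype.card K = 3 ^ (2 * m + 1))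
    (hH : Nat.card ↥(Hr K m) = 3 ^ (2 * m + 1) - 1) :
    ∃ a : ↥(Gr K m), (a : GL chevG2.Idx K) ∈ chevG2.diagonalSubgroup K ∧ a ≠ 1 ∧ a * a = 1 := by
  haveI := (field_data hK).1
  obtain ⟨ψ, hψ, -⟩ := exists_param (uShape hK)
  have hsurj : Function.Surjective ψ :=
    (hψ.bijective_of_nat_card_le (by rw [hH, Nat.card_units, Nat.card_eq_fintype_card, hK])).2
  obtain ⟨a, ha⟩ := hsurj (-1)
  refine ⟨⟨a, (Subgroup.mem_inf.1 a.2).2⟩, (Subgroup.mem_inf.1 a.2).1, fun e => ?_, ?_⟩
  · have e1 : a = 1 := Subtype.ext (congrArg (fun x : ↥(Gr K m) => (x : GL chevG2.Idx K)) e)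
    rw [e1, map_one] at ha
    exact neg_one_ne_one ha.symm
  · have e1 : a * a = 1 := hψ (by rw [map_mul, ha, map_one, neg_mul_neg, one_mul])
    exact Subtype.ext (congrArg (fun x : ↥(Hr K m) => (x : GL chevG2.Idx K)) e1)

/-- The Sylow subgroups for primes above three are cyclic. -/
theorem sylow_cyclic (hK : Fintype.card K = 3 ^ (2 * m + 1))
    (hH : Nat.card ↥(Hr K m) = 3 ^ (2 * m + 1) - 1) {p : ℕ} [Fact p.Prime] (hp : 3 < p)
    (P : Sylow p ↥(Gr K m)) : IsCyclic (P : Subgroup ↥(Gr K m)) := by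
  classical
  haveI := (field_data hK).1
  have hpp : p.Prime := Fact.out
  set q := 3 ^ (2 * m + 1) with hq
  have hq1 : 1 < q := Nat.one_lt_pow (by omega) (by omega)
  have hp3 : ¬ p ∣ q := fun h => by
    have := (Nat.prime_dvd_prime_iff_eq hpp Nat.prime_three).1 (hpp.dvd_of_dvd_pow h)
    omega
  set N := q * (q - 1) + 1 with hN
  have hfac : 1 + q ^ 3 = (q + 1) * N := by
    obtain ⟨r, hr⟩ := Nat.exists_eq_add_of_le hq1.le
    rw [hN, hr, Nat.add_sub_cancel_left]
    ring
  have hG : Nat.card ↥(Gr K m) = q ^ 3 * (q - 1) * ((q + 1) * N) := by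
    rw [card_Gr hK, hH, ← hq, hfac]
  have hnot : ∀ k, 0 < k → k < p → ¬ p ∣ k := fun k h0 h1 h => absurd (Nat.le_of_dvd h0 h) (by omega)
  have hq0 : ¬ p ∣ q ^ 3 := fun h => hp3 (hpp.dvd_of_dvd_pow h)
  by_cases h1 : p ∣ q - 1
  · -- inside the diagonal subgroup
    let H' : Subgroup ↥(Gr K m) := (Hr K m).subgroupOf (Gr K m)
    have hcy : IsCyclic ↥H' := by
      haveI := isCyclic_diagonal (uShape hK)
      exact (MulEquiv.isCyclic (Subgroup.subgroupOfEquivOfLe (inf_le_right : Hr K m ≤ Gr K m))).2 inferInstance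
    have hHidx : ¬ p ∣ H'.index := by
      have hmul := H'.card_mul_index
      rw [Nat.card_congr (Subgroup.subgroupOfEquivOfLe (inf_le_right : Hr K m ≤ Gr K m)).toEquiv, hH, hG] at hmul
      have e : H'.index = q ^ 3 * ((q + 1) * N) :=
        Nat.eq_of_mul_eq_mul_left (by omega : 0 < q - 1) (by rw [hmul]; ring)
      rw [e, ← hfac]
      intro h
      rcases hpp.dvd_mul.1 h with h | h
      · exact hq0 h
      · have h2 : p ∣ q ^ 3 - 1 := h1.trans (by simpa using Nat.sub_one_dvd_pow_sub_one q 3)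
        have h3 := Nat.dvd_sub h h2
        have h4 : 1 ≤ q ^ 3 := Nat.one_le_pow _ _ (by omega)
        rw [show 1 + q ^ 3 - (q ^ 3 - 1) = 2 by omega] at h3
        exact hnot 2 (by omega) (by omega) h3
    obtain ⟨Q⟩ := (inferInstance : Nonempty (Sylow p ↥H'))
    refine isCyclic_sylow_of_witness ((Q : Subgroup ↥H').map H'.subtype) (Q.isPGroup'.map _) ?_ ?_ P
    · rw [Subgroup.index_map_subtype]
      intro h
      rcases hpp.dvd_mul.1 h with h | h
      · exact Q.not_dvd_index h
      · exact hHidx h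
    · exact isCyclic_of_surjective _ ((Q : Subgroup ↥H').equivMapOfInjective H'.subtype H'.subtype_injective).surjective
  by_cases h2 : p ∣ q + 1
  · -- inside the centraliser of an involution
    obtain ⟨a, haH, ha1, ha2⟩ := exists_involution hK hH
    obtain ⟨Φ, -, hker⟩ := centralizer_involution hK a haH ha1 ha2
    let φ : SL(2, K) →* ↥(Gr K m) :=
      (Subgroup.centralizer ({a} : Set ↥(Gr K m))).subtype.comp (Φ.comp (MonoidHom.inr _ _))
    obtain ⟨Q⟩ := (inferInstance : Nonempty (Sylow p SL(2, K)))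
    haveI : Fact (Nat.Prime 3) := ⟨Nat.prime_three⟩
    have hQc : IsCyclic ↥(Q : Subgroup SL(2, K)) :=
      H1.isCyclic_of_isPGroup_SL2 3 p (by omega) (by omega) _ Q.isPGroup'
    have hinj : Function.Injective (φ.comp (Q : Subgroup SL(2, K)).subtype) := by
      rw [injective_iff_map_eq_one]
      rintro ⟨g, hg⟩ h
      have hc := ((hker (1, g)).1 (Subtype.ext h)).2
      obtain ⟨r, hr, hr'⟩ := Matrix.SpecialLinearGroup.mem_center_iff.1 hc
      rw [Fintype.card_fin] at hr
      have hg2 : g ^ 2 = 1 := by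
        apply Subtype.ext
        rw [Matrix.SpecialLinearGroup.coe_pow, ← hr', ← map_pow, hr, map_one]
        rfl
      obtain ⟨j, hj⟩ := Q.isPGroup' ⟨g, hg⟩
      have h4 := pow_gcd_eq_one.2 ⟨(congrArg Subtype.val hj : g ^ p ^ j = 1), hg2⟩
      rw [show (p ^ j).gcd 2 = 1 from ((Nat.coprime_primes hpp Nat.prime_two).2 (by omega)).pow_left j, pow_one] at h4
      exact Subtype.ext h4
    refine isCyclic_sylow_of_witness (φ.comp (Q : Subgroup SL(2, K)).subtype).range
      (Q.isPGroup'.of_surjective _ (MonoidHom.rangeRestrict_surjective _)) ?_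
      (isCyclic_of_surjective _ (MonoidHom.rangeRestrict_surjective _)) P
    have hmul := (φ.comp (Q : Subgroup SL(2, K)).subtype).range.card_mul_index
    rw [← Nat.card_congr (MonoidHom.ofInjective hinj).toEquiv, hG] at hmul
    have hSL := (Q : Subgroup SL(2, K)).card_mul_index
    rw [H6.card_sl2 hK] at hSL
    have hsq : q ^ 2 - 1 = (q + 1) * (q - 1) := by simpa using Nat.sq_sub_sq q 1
    rw [hsq] at hSL
    intro h
    have e : (φ.comp (Q : Subgroup SL(2, K)).subtype).range.index = (Q : Subgroup SL(2, K)).index * (q ^ 2 * N) :=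
      Nat.eq_of_mul_eq_mul_left Nat.card_pos (by rw [hmul, ← mul_assoc (Nat.card _) _ (q ^ 2 * N), hSL]; ring)
    rw [e] at h
    rcases hpp.dvd_mul.1 h with h | h
    · exact Q.not_dvd_index h
    rcases hpp.dvd_mul.1 h with h | h
    · exact hp3 (hpp.dvd_of_dvd_pow h)
    · have h3 : p ∣ (q + 1) * q := h2.mul_right q
      have h5 : N + 2 * (q + 1) = (q + 1) * q + 3 := by
        obtain ⟨r, hr⟩ := Nat.exists_eq_add_of_le hq1.le
        rw [hN, hr, Nat.add_sub_cancel_left]
        ring
      have h6 : p ∣ N + 2 * (q + 1) := dvd_add h (h2.mul_left 2)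
      rw [h5] at h6
      exact hnot 3 (by omega) hp ((Nat.dvd_add_iff_right h3).2 h6)
  by_cases h3 : p ∣ N
  · -- faithful seven-dimensional representation
    let ρ : ↥(Gr K m) →* GL (Fin 7) K :=
      (H47.idealRep (F := K) H47.idealCheck_g2).comp (Subgroup.inclusion H65.Twist.twistedG2_le)
    have hρ : Function.Injective ρ :=
      (H47.idealRep_injective (F := K) H47.idealCheck_g2 H47.leftInvCheck_g2).comp (Subgroup.inclusion_injective _)
    have hd : orderOf (Fintype.card K : ZMod p) = 6 := by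
      rw [hK]; exact orderOf_six hp hq1.le h3
    haveI := isCyclic_GL_seven hd ((P : Subgroup ↥(Gr K m)).map ρ) (P.isPGroup'.map ρ)
    exact (MulEquiv.isCyclic ((P : Subgroup ↥(Gr K m)).equivMapOfInjective ρ hρ)).2 inferInstance
  · have hcard : ¬ p ∣ Nat.card ↥(Gr K m) := by
      rw [hG]
      intro h
      rcases hpp.dvd_mul.1 h with h | h
      · rcases hpp.dvd_mul.1 h with h | h
        · exact hq0 h
        · exact h1 h
      · rcases hpp.dvd_mul.1 h with h | h
        · exact h2 h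
        · exact h3 h
    haveI : Subsingleton ↥(P : Subgroup ↥(Gr K m)) := by
      obtain ⟨n, hn⟩ := P.isPGroup'.exists_card_eq
      have hd : Nat.card ↥(P : Subgroup ↥(Gr K m)) ∣ Nat.card ↥(Gr K m) := Subgroup.card_subgroup_dvd_card _
      rcases Nat.eq_zero_or_pos n with rfl | hn0
      · exact (Nat.card_eq_one_iff_unique.1 (hn.trans (pow_zero p))).1
      · exact absurd ((dvd_pow_self p hn0.ne').trans (hn ▸ hd)) hcard
    exact isCyclic_of_subsingleton

end Cfsg.Agent.H48.Ree
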