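import Cfsg.Agent.H48.Ree.Sylow

/-!
Three-point stabilisers of the small Ree group acting on the cosets of its Borel subgroup.
-/

set_option autoImplicit false

open Cfsg.Lie Cfsg.Agent.H46 Cfsg.Agent.H65.Twist

namespace Cfsg.Agent.H48.Ree

variable {K : Type*} [Field K] [Fintype K] {m : ℕ}

theorem nW_sq (hK : Fintype.card K = 3 ^ (2 * m + 1)) : (nW : GL chevG2.Idx K) * nW ∈ Hr K m := by
  haveI := (field_data hK).1
  exact ((data_facts hK).2.2 _).1 ((reeSetup K hK).data.nS_sq ())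

theorem conj_nW_inv_Hr (hK : Fintype.card K = 3 ^ (2 * m + 1)) {h : GL chevG2.Idx K} (hh : h ∈ Hr K m) :
    nW⁻¹ * h * nW ∈ Hr K m := by
  have hs := nW_sq (m := m) hK
  have := conj_nW_Hr hK (mul_mem (mul_mem (inv_mem hs) hh) hs)
  convert this using 1
  group

theorem conj_nW_inv_borel (hK : Fintype.card K = 3 ^ (2 * m + 1)) {u : GL chevG2.Idx K} (hu : u ∈ Ur K m)
    (hb : nW⁻¹ * u * nW ∈ Br K m) : u = 1 := by
  have hs := Hr_le_Br (nW_sq (m := m) hK)
  have h1 : nW * u * nW⁻¹ ∈ Br K m := by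
    have := mul_mem (mul_mem hs hb) (inv_mem hs)
    convert this using 1
    group
  exact conj_nW_borel hK hu (Subgroup.mem_inf.1 h1).1

/-- An element outside the Borel subgroup lies in `U n B`. -/
theorem decomp_left (hK : Fintype.card K = 3 ^ (2 * m + 1)) {g : GL chevG2.Idx K} (hg : g ∈ Gr K m)
    (hgB : g ∉ Br K m) : ∃ u ∈ Ur K m, ∃ b ∈ Br K m, g = u * nW * b := by
  rcases decomp hK (inv_mem hg) with h | ⟨b, hb, u, hu, e⟩
  · exact absurd (inv_mem h) (by rwa [inv_inv])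
  · refine ⟨u⁻¹, inv_mem hu, _, mul_mem (inv_mem (Hr_le_Br (nW_sq hK))) (inv_mem hb), ?_⟩
    rw [← inv_inj, e]
    group

theorem two_point (hK : Fintype.card K = 3 ^ (2 * m + 1)) {h : GL chevG2.Idx K} (h1 : h ∈ Br K m)
    (h2 : nW⁻¹ * h * nW ∈ Br K m) : h ∈ Hr K m := by
  obtain ⟨u, hu, k, hk, rfl⟩ := mem_Br hK h1
  have hu1 : u = 1 := by
    refine conj_nW_inv_borel hK hu ?_
    have := mul_mem h2 (inv_mem (Hr_le_Br (conj_nW_inv_Hr hK hk)))
    convert this using 1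
    group
  rwa [hu1, one_mul]

theorem three_point (hK : Fintype.card K = 3 ^ (2 * m + 1)) {h w : GL chevG2.Idx K} (hh : h ∈ Hr K m)
    (hw : w ∈ Ur K m) (h3 : nW⁻¹ * (w⁻¹ * h * w) * nW ∈ Br K m) : h * w = w * h := by
  have hc : w⁻¹ * (h * w * h⁻¹) ∈ Ur K m := mul_mem (inv_mem hw) (conj_U (Hr_le_Br hh) hw)
  have hB : w⁻¹ * h * w ∈ Br K m := mul_mem (mul_mem (inv_mem (Ur_le_Br hw)) (Hr_le_Br hh)) (Ur_le_Br hw)
  have h4 : w⁻¹ * (h * w * h⁻¹) ∈ Hr K m := by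
    have := mul_mem (two_point hK hB h3) (inv_mem hh)
    convert this using 1
    group
  have h5 := Ur_inf_Hr hc h4
  rw [inv_mul_eq_one] at h5
  conv_rhs => rw [h5]
  group

theorem smul_mk_eq_iff {G : Type*} [Group G] {B : Subgroup G} (k a : G) :
    k • (a : G ⧸ B) = (a : G ⧸ B) ↔ a⁻¹ * k * a ∈ B := by
  change ((k * a : G) : G ⧸ B) = (a : G ⧸ B) ↔ _
  rw [QuotientGroup.eq, ← inv_mem_iff]
  simp only [mul_inv_rev, inv_inv, mul_assoc]

/-- A three-point stabiliser has at most two elements. -/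
theorem stabilizer_three_le (hK : Fintype.card K = 3 ^ (2 * m + 1))
    (x y z : ↥(Gr K m) ⧸ (Br K m).subgroupOf (Gr K m)) (hxy : x ≠ y) (hxz : x ≠ z) (hyz : y ≠ z) :
    Nat.card ↥(MulAction.stabilizer ↥(Gr K m) x ⊓ MulAction.stabilizer ↥(Gr K m) y ⊓
      MulAction.stabilizer ↥(Gr K m) z) ≤ 2 := by
  haveI := (field_data hK).1
  induction x using QuotientGroup.induction_on with
  | H a =>
  induction y using QuotientGroup.induction_on with
  | H c =>
  induction z using QuotientGroup.induction_on with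
  | H d =>
  rw [ne_eq, QuotientGroup.eq, Subgroup.mem_subgroupOf, Subgroup.coe_mul, Subgroup.coe_inv] at hxy hxz hyz
  obtain ⟨u1, hu1, b1, hb1, e1⟩ := decomp_left hK (mul_mem (inv_mem a.2) c.2) hxy
  obtain ⟨u2, hu2, b2, hb2, e2⟩ := decomp_left hK (mul_mem (inv_mem a.2) d.2) hxz
  set w := u1⁻¹ * u2 with hwdef
  have hw : w ∈ Ur K m := mul_mem (inv_mem hu1) hu2
  have hw1 : w ≠ 1 := by
    intro e
    rw [hwdef, inv_mul_eq_one] at e
    subst e
    refine hyz ?_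
    have hc : (c : GL chevG2.Idx K) = (a : GL chevG2.Idx K) * (u1 * nW * b1) := by rw [← e1, mul_inv_cancel_left]
    have hd : (d : GL chevG2.Idx K) = (a : GL chevG2.Idx K) * (u1 * nW * b2) := by rw [← e2, mul_inv_cancel_left]
    rw [hc, hd]
    have := mul_mem (inv_mem hb1) hb2
    convert this using 1
    group
  obtain ⟨ψ, hψ, hact⟩ := exists_param (uShape hK)
  obtain ⟨t, u, v, hwe⟩ := uShape hK w hw
  have key : ∀ k : ↥(MulAction.stabilizer ↥(Gr K m) (a : ↥(Gr K m) ⧸ (Br K m).subgroupOf (Gr K m)) ⊓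
      MulAction.stabilizer ↥(Gr K m) (c : ↥(Gr K m) ⧸ (Br K m).subgroupOf (Gr K m)) ⊓
      MulAction.stabilizer ↥(Gr K m) (d : ↥(Gr K m) ⧸ (Br K m).subgroupOf (Gr K m))),
      ∃ h : ↥(Hr K m), (h : GL chevG2.Idx K) = u1⁻¹ * (a : GL chevG2.Idx K)⁻¹ * (k.1 : GL chevG2.Idx K) * a * u1 ∧
        ψ h ^ 2 = 1 := by
    rintro ⟨k, hk⟩
    obtain ⟨hk', kd⟩ := Subgroup.mem_inf.1 hk
    obtain ⟨ka, kc⟩ := Subgroup.mem_inf.1 hk'
    rw [MulAction.mem_stabilizer_iff, smul_mk_eq_iff, Subgroup.mem_subgroupOf, Subgroup.coe_mul,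
      Subgroup.coe_mul, Subgroup.coe_inv] at ka kc kd
    set h := u1⁻¹ * (a : GL chevG2.Idx K)⁻¹ * (k : GL chevG2.Idx K) * a * u1 with hdef
    have h1 : h ∈ Br K m := by
      have := mul_mem (mul_mem (inv_mem (Ur_le_Br hu1)) ka) (Ur_le_Br hu1)
      convert this using 1
      rw [hdef]
      group
    have hc : (c : GL chevG2.Idx K) = (a : GL chevG2.Idx K) * (u1 * nW * b1) := by rw [← e1, mul_inv_cancel_left]
    have hd : (d : GL chevG2.Idx K) = (a : GL chevG2.Idx K) * (u2 * nW * b2) := by rw [← e2, mul_inv_cancel_left]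
    have h2 : nW⁻¹ * h * nW ∈ Br K m := by
      rw [hc] at kc
      have := mul_mem (mul_mem hb1 kc) (inv_mem hb1)
      convert this using 1
      rw [hdef]
      group
    have h3 : nW⁻¹ * (w⁻¹ * h * w) * nW ∈ Br K m := by
      rw [hd] at kd
      have := mul_mem (mul_mem hb2 kd) (inv_mem hb2)
      convert this using 1
      rw [hdef, hwdef]
      group
    have hh := two_point hK h1 h2
    refine ⟨⟨h, hh⟩, rfl, ?_⟩
    have hcomm := three_point hK hh hw h3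
    have e := hact ⟨h, hh⟩ t u v
    simp only [← hwe, hcomm, mul_inv_cancel_right] at e
    rw [hwe] at e
    obtain ⟨et, eu, ev⟩ := W_injective e
    have z1 : ∀ (y : Kˣ) (c : K), c = (y : K) * c → c ≠ 0 → y = 1 := fun y c hc hne =>
      Units.ext (mul_right_cancel₀ hne (hc.symm.trans (one_mul c).symm))
    set s := ψ ⟨h, hh⟩ with hs
    have hq' : s ^ 3 ^ (2 * m + 1) = s :=
      Units.ext (by rw [Units.val_pow_eq_pow_val]; exact (field_data hK).2 _)
    have h9 : (s ^ (3 * 3 ^ m)) ^ (3 * 3 ^ m) = s ^ 3 := by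
      rw [← pow_mul, show 3 * 3 ^ m * (3 * 3 ^ m) = 3 ^ (2 * m + 1) * 3 by ring, pow_mul, hq']
    rcases ne_or_eq t 0 with ht | ht
    · rw [z1 s t et ht, one_pow]
    rcases ne_or_eq u 0 with hu0 | hu0
    · have h4 : s ^ (3 * 3 ^ m + 1) = 1 := z1 _ u (by simpa using eu) hu0
      have h5 : s ^ (3 * 3 ^ m) = s⁻¹ := eq_inv_of_mul_eq_one_left (by rw [← pow_succ, h4])
      rw [h5, inv_pow, h5, inv_inv, pow_succ, right_eq_mul] at h9
      exact h9
    rcases ne_or_eq v 0 with hv0 | hv0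
    · have h4 : s ^ (3 * 3 ^ m + 2) = 1 := z1 _ v (by simpa using ev) hv0
      have h5 : s ^ (3 * 3 ^ m) = (s ^ 2)⁻¹ := eq_inv_of_mul_eq_one_left (by rw [← pow_add, h4])
      rw [h5, inv_pow, ← pow_mul, mul_comm, pow_mul, h5, inv_pow, inv_inv, ← pow_mul,
        show 2 * 2 = 3 + 1 from rfl, pow_succ, mul_eq_left] at h9
      rw [h9, one_pow]
    exact absurd (hwe.trans (W_eq_one_iff.2 ⟨ht, hu0, hv0⟩)) hw1
  choose f hf hf2 using key
  have hle : Nat.card ↥(rootsOfUnity 2 K) ≤ 2 := by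
    exact card_rootsOfUnity K 2
  refine le_trans (Nat.card_le_card_of_injective
    (fun k => (⟨ψ (f k), (mem_rootsOfUnity 2 _).2 (hf2 k)⟩ : ↥(rootsOfUnity 2 K))) ?_) hle
  intro k k' e
  have e2 : f k = f k' := hψ (congrArg Subtype.val e)
  have e3 := congrArg (fun h : ↥(Hr K m) => (h : GL chevG2.Idx K)) e2
  simp only [hf] at e3
  exact Subtype.ext (Subtype.ext (mul_left_cancel (mul_right_cancel (mul_right_cancel e3))))

/-- Some three-point stabiliser has two elements. -/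
theorem stabilizer_three_eq (hK : Fintype.card K = 3 ^ (2 * m + 1))
    (hH : Nat.card ↥(Hr K m) = 3 ^ (2 * m + 1) - 1) :
    ∃ x y z : ↥(Gr K m) ⧸ (Br K m).subgroupOf (Gr K m), x ≠ y ∧ x ≠ z ∧ y ≠ z ∧
      Nat.card ↥(MulAction.stabilizer ↥(Gr K m) x ⊓ MulAction.stabilizer ↥(Gr K m) y ⊓
        MulAction.stabilizer ↥(Gr K m) z) = 2 := by
  haveI := (field_data hK).1
  obtain ⟨ψ, hψ, hact⟩ := exists_param (uShape hK)
  have hsurj : Function.Surjective ψ :=
    (hψ.bijective_of_nat_card_le (by rw [hH, Nat.card_units, Nat.card_eq_fintype_card, hK])).2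
  obtain ⟨a, ha⟩ := hsurj (-1)
  set w := W (3 ^ m) (0 : K) 1 0 with hw
  have hwU : w ∈ Ur K m := W_mem_U _ _ _ _
  have hcomm : (a : GL chevG2.Idx K) * w = w * a := by
    have e := hact a 0 1 0
    have hodd : Even (3 * 3 ^ m + 1) := Odd.add_one (Odd.mul (by decide) (Odd.pow (by decide)))
    simp only [ha, mul_zero, mul_one, Units.val_neg, Units.val_one, hodd.neg_one_pow] at e
    rw [mul_inv_eq_iff_eq_mul] at e
    exact e
  let n' : ↥(Gr K m) := ⟨nW, nW_mem hK⟩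
  let w' : ↥(Gr K m) := ⟨w, (Subgroup.mem_inf.1 hwU).2⟩
  have hne1 : ((1 : ↥(Gr K m)) : ↥(Gr K m) ⧸ (Br K m).subgroupOf (Gr K m)) ≠ (n' : ↥(Gr K m) ⧸ _) := by
    rw [ne_eq, QuotientGroup.eq, Subgroup.mem_subgroupOf, inv_one, one_mul]
    exact nW_not_borel hK
  have hne2 : ((1 : ↥(Gr K m)) : ↥(Gr K m) ⧸ (Br K m).subgroupOf (Gr K m)) ≠ ((w' * n' : ↥(Gr K m)) : ↥(Gr K m) ⧸ _) := by
    rw [ne_eq, QuotientGroup.eq, Subgroup.mem_subgroupOf, inv_one, one_mul]
    intro h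
    refine nW_not_borel hK ?_
    have := mul_mem (inv_mem (Ur_le_Br hwU)) h
    convert this using 1
    simp [n', w']
  have hne3 : (n' : ↥(Gr K m) ⧸ (Br K m).subgroupOf (Gr K m)) ≠ ((w' * n' : ↥(Gr K m)) : ↥(Gr K m) ⧸ _) := by
    rw [ne_eq, QuotientGroup.eq, Subgroup.mem_subgroupOf]
    intro h
    have h1 := conj_nW_inv_borel hK hwU (by simpa [n', w', mul_assoc] using h)
    exact one_ne_zero (W_eq_one_iff.1 h1).2.1
  refine ⟨_, _, _, hne1, hne2, hne3, le_antisymm (stabilizer_three_le hK _ _ _ hne1 hne2 hne3) ?_⟩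
  have hmem : ∀ h : ↥(Hr K m), (h : GL chevG2.Idx K) * w = w * h →
      (⟨h, (Subgroup.mem_inf.1 h.2).2⟩ : ↥(Gr K m)) ∈
        MulAction.stabilizer ↥(Gr K m) ((1 : ↥(Gr K m)) : ↥(Gr K m) ⧸ (Br K m).subgroupOf (Gr K m)) ⊓
        MulAction.stabilizer ↥(Gr K m) (n' : ↥(Gr K m) ⧸ (Br K m).subgroupOf (Gr K m)) ⊓
        MulAction.stabilizer ↥(Gr K m) ((w' * n' : ↥(Gr K m)) : ↥(Gr K m) ⧸ (Br K m).subgroupOf (Gr K m)) := by
    intro h hc
    have hn := Hr_le_Br (conj_nW_inv_Hr hK h.2)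
    refine Subgroup.mem_inf.2 ⟨Subgroup.mem_inf.2 ⟨?_, ?_⟩, ?_⟩ <;>
      rw [MulAction.mem_stabilizer_iff, smul_mk_eq_iff, Subgroup.mem_subgroupOf]
    · simpa using Hr_le_Br h.2
    · exact hn
    · have e : (w * nW)⁻¹ * (h : GL chevG2.Idx K) * (w * nW) = nW⁻¹ * (h : GL chevG2.Idx K) * nW := by
        rw [show (w * nW)⁻¹ * (h : GL chevG2.Idx K) * (w * nW) = nW⁻¹ * (w⁻¹ * ((h : GL chevG2.Idx K) * w)) * nW by group, hc,
          inv_mul_cancel_left]
      simp only [Subgroup.coe_mul, Subgroup.coe_inv, n', w']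
      rw [e]
      exact hn
  have ha1 : (a : GL chevG2.Idx K) ≠ 1 := fun e => by
    have e1 : a = 1 := Subtype.ext e
    rw [e1, map_one] at ha
    have h2 : (2 : K) = 0 := by
      have := congrArg (fun x : Kˣ => (x : K)) ha
      simp only [Units.val_one, Units.val_neg] at this
      linear_combination this
    exact one_ne_zero (α := K) (by linear_combination (three0 (F := K)) - h2)
  refine Nat.succ_le_of_lt (Finite.one_lt_card_iff_nontrivial.2 ⟨⟨⟨_, hmem 1 (by simp)⟩, ⟨_, hmem a hcomm⟩, ?_⟩⟩)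
  intro e
  exact ha1 (congrArg (fun x => ((x.1 : ↥(Gr K m)) : GL chevG2.Idx K)) e).symm

end Cfsg.Agent.H48.Ree
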